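import Cfsg.Agent.Lib.Gold.Inner
import Cfsg.Agent.Lib.PGrp.TwoMax
import Cfsg.Agent.Lib.Invol.Transfer2
import Cfsg.Agent.Lib.Block.Homocyc

/-! Transfer and extremal conjugation tools in a perfect subgroup. -/

set_option autoImplicit false
set_option linter.unusedSectionVars false
set_option linter.style.haveILetI false

namespace Cfsg.Lib.Z4F
open Subgroup Cfsg.Lib.Core Cfsg.Lib.Amalg

variable {G : Type*} [Group G] [Finite G] {A T L S M K P : Subgroup G}

theorem hom_eq_one {H B : Type*} [Group H] [Group B] (hH : Group.IsPerfect H) (f : H →* B)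
    (hc : ∀ a b : H, f a * f b = f b * f a) (x : H) : f x = 1 := by
  have : _root_.commutator H ≤ f.ker := by
    rw [commutator_def, commutator_le]
    intro a _ b _
    rw [MonoidHom.mem_ker, map_commutatorElement, commutatorElement_eq_one_iff_mul_comm]
    exact hc a b
  exact this Group.IsPerfect.mem_commutator

theorem no_index_two {H : Type*} [Group H] (hH : Group.IsPerfect H) (K : Subgroup H) : K.index ≠ 2 := by
  intro h
  obtain ⟨φ, hφ⟩ := Invol.exists_sign_hom (H := ⊤) (M := K) (by rwa [relIndex_top_right])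
  have : K = ⊤ := eq_top_iff.2 fun x _ => (hφ ⟨x, trivial⟩).1
    (hom_eq_one hH (φ.comp (topEquiv (G := H)).symm.toMonoidHom) (fun a b => mul_comm _ _) x)
  rw [this, index_top] at h
  omega

theorem odd_idx (hT : Syl 2 T A) : Odd (T.subgroupOf A).index := by
  rw [← Nat.not_even_iff_odd, even_iff_two_dvd]
  exact hT.not_dvd_relIndex

theorem ttpow (hA : Group.IsPerfect A) (hT : Syl 2 T A) (hM : M.relIndex T = 2) {x : G} (hx : x ∈ A)
    {n : ℕ} (hn : x ^ 2 ^ n = 1)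
    (h : ∀ (k : ℕ), ∀ g ∈ A, Even k → g * x ^ k * g⁻¹ ∈ T → g * x ^ k * g⁻¹ ∈ M) :
    ∃ g ∈ A, g * x * g⁻¹ ∈ M := by
  obtain ⟨g, hg⟩ := Invol.thompson_transfer_pow (no_index_two hA) (H := T.subgroupOf A)
    (M := M.subgroupOf A) (odd_idx hT) (by rw [relIndex_subgroupOf hT.le, hM]) (x := ⟨x, hx⟩) (n := n)
    (Subtype.ext hn) fun k g hk hm => h k g g.2 hk hm
  exact ⟨g, g.2, hg⟩

theorem tt (hA : Group.IsPerfect A) (hT : Syl 2 T A) (hM : M.relIndex T = 2) {x : G} (hx : x ∈ A)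
    (hn : x ^ 2 = 1) : ∃ g ∈ A, g * x * g⁻¹ ∈ M :=
  ttpow hA hT hM hx (n := 1) hn fun k g _ ⟨j, hj⟩ _ => by
    rw [hj, ← two_mul, pow_mul, hn, one_pow, mul_one, mul_inv_cancel]; exact one_mem _

/-- transfer to an abelian quotient `T / K` -/
theorem gt (hA : Group.IsPerfect A) (hT : Syl 2 T A)
    (hc : ∀ a ∈ T, ∀ b ∈ T, a * b * a⁻¹ * b⁻¹ ∈ K) {u : G} (hu : u ∈ T) (h2 : u ^ 2 = 1) (huK : u ∉ K) :
    ∃ g ∈ A, g * u * g⁻¹ ∈ T ∧ g * u * g⁻¹ * u⁻¹ ∉ K := by
  by_contra hcon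
  push Not at hcon
  let H : Subgroup A := T.subgroupOf A
  let N : Subgroup H := K.comap (A.subtype.comp H.subtype)
  haveI hN : N.Normal := ⟨fun n hn g => by
    have := K.mul_mem (hc _ g.2 _ n.2) hn
    change ((g : A) : G) * ((n : A) : G) * ((g : A) : G)⁻¹ ∈ K
    simpa using this⟩
  letI : CommGroup (H ⧸ N) := { (inferInstance : Group (H ⧸ N)) with
    mul_comm := fun a b => by
      obtain ⟨a, rfl⟩ := QuotientGroup.mk_surjective a
      obtain ⟨b, rfl⟩ := QuotientGroup.mk_surjective b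
      rw [← QuotientGroup.mk_mul, ← QuotientGroup.mk_mul, QuotientGroup.eq]
      have := hc _ (inv_mem b.2) _ (inv_mem a.2)
      change (((a : A) : G) * ((b : A) : G))⁻¹ * (((b : A) : G) * ((a : A) : G)) ∈ K
      simpa [mul_assoc] using this }
  let u' : H := ⟨⟨u, hT.le hu⟩, hu⟩
  have hu2 : u' ^ 2 = 1 := Subtype.ext (Subtype.ext h2)
  have h1 := Invol.transfer_eq_pow_of (QuotientGroup.mk' N) (u' : A) (u' : H ⧸ N) (fun k g hg hk => by
    have hk2 : k ∣ 2 := hk.trans (orderOf_dvd_of_pow_eq_one (Subtype.ext h2))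
    rcases (Nat.dvd_prime Nat.prime_two).1 hk2 with rfl | rfl
    · rw [pow_one (u' : H ⧸ N), QuotientGroup.mk'_apply, QuotientGroup.eq_iff_div_mem]
      have h3 : (g : G)⁻¹ * u * (g : G)⁻¹⁻¹ ∈ T := by simpa using mem_subgroupOf.1 hg
      have := hcon _ (inv_mem g.2) h3
      change ((g : G)⁻¹ * u ^ 1 * g) / u ∈ K
      simpa [div_eq_mul_inv] using this
    · rw [← QuotientGroup.mk_pow, hu2, QuotientGroup.mk'_apply]
      congr 1
      apply Subtype.ext
      have : (u' : A) ^ 2 = 1 := Subtype.ext h2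
      simp [this])
  rw [hom_eq_one hA _ (fun a b => mul_comm _ _)] at h1
  obtain ⟨j, hj⟩ := odd_idx hT
  rw [show H.index = 2 * j + 1 from hj, pow_succ, pow_mul, ← QuotientGroup.mk_pow, hu2] at h1
  simp only [QuotientGroup.mk_one, one_pow, one_mul] at h1
  exact huK ((QuotientGroup.eq_one_iff u').1 h1.symm)

/-- extremal conjugation to a central element of a Sylow subgroup -/
theorem ex0 (hS : Syl 2 S L) {z v g : G} (hz : ∀ x ∈ S, x * z = z * x) (hg : g ∈ L)
    (hv : g * v * g⁻¹ = z) (hP : IsPGroup 2 P) (hPL : P ≤ L) (hc : ∀ s ∈ P, s * v = v * s) :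
    ∃ h ∈ L, h * v * h⁻¹ = z ∧ ∀ s ∈ P, h * s * h⁻¹ ∈ S := by
  have h1 : Syl 2 S (L ⊓ centralizer {z}) :=
    hS.of_le (le_inf hS.le fun x hx => mem_centralizer_singleton_iff.2 (hz x hx)) inf_le_left
  obtain ⟨h, hh, e⟩ := h1.exists_conj_le (isPGroup_cj g hP) (cj_le_iff'.2 fun s hs =>
    ⟨L.mul_mem (L.mul_mem hg (hPL hs)) (L.inv_mem hg), mem_centralizer_singleton_iff.2 (by
      rw [← hv]
      calc g * s * g⁻¹ * (g * v * g⁻¹) = g * (s * v) * g⁻¹ := by group
        _ = _ := by rw [hc s hs]; group)⟩)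
  refine ⟨h * g, L.mul_mem hh.1 hg, ?_, fun s hs => ?_⟩
  · have := mem_centralizer_singleton_iff.1 hh.2
    calc h * g * v * (h * g)⁻¹ = h * (g * v * g⁻¹) * h⁻¹ := by group
      _ = z := by rw [hv, this]; group
  · have := e (conj_mem_cj h (conj_mem_cj g hs))
    convert this using 1; group

theorem ex (hS : Syl 2 S L) {z v g s : G} (hz : ∀ x ∈ S, x * z = z * x) (hz2 : z ^ 2 = 1) (hz1 : z ≠ 1)
    (hg : g ∈ L) (hv : g * v * g⁻¹ = z) (hs : s ∈ L) (hc : s * v = v * s) (hs2 : s ^ 2 = z)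
    (hsq : ∀ x ∈ S, (x ^ 2) ^ 2 = 1 → x ^ 2 = 1 ∨ x ^ 2 = z) : v = z := by
  obtain ⟨h, -, h1, h2⟩ := ex0 hS hz hg hv (P := zpowers s)
    (isPGroup_zpowers_of_pow (k := 2) (by rw [show 2 ^ 2 = 2 * 2 from rfl, pow_mul, hs2, hz2]))
    (zpowers_le.2 hs) (by rintro _ ⟨i, rfl⟩; exact (Commute.zpow_left hc i))
  have e : (h * s * h⁻¹) ^ 2 = h * z * h⁻¹ := by rw [conj_pow, hs2]
  rcases hsq _ (h2 s (mem_zpowers s)) (by rw [e, conj_pow, hz2]; group) with h3 | h3
  · rw [e, conj_eq_one_iff] at h3; exact absurd h3 hz1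
  · rw [e] at h3
    have := h1.trans h3.symm
    simpa using this

/-- an element with square `z` centralizing `T` is impossible when `z` is fused -/
theorem ctrick (hA : Group.IsPerfect A) (hT : Syl 2 T A) {c z y : G} (hcA : c ∈ 𝐍 A)
    (hc : ∀ x ∈ T, c * x = x * c) (hcz : c ^ 2 = z) (hz2 : z ^ 2 = 1) (hz1 : z ≠ 1)
    (hM : M.relIndex T = 2) (hMu : ∀ m ∈ M, m ^ 2 = 1 → m = 1 ∨ m = z)
    (hy : y ∈ T) (hy2 : y ^ 2 = 1) (hy1 : y ≠ 1) (hyz : y ≠ z)
    (hsq : ∀ x ∈ T, (x ^ 2) ^ 2 = 1 → x ^ 2 = 1 ∨ x ^ 2 = z) : False := by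
  obtain ⟨g, hg, h1⟩ := tt hA hT hM (hT.le hy) hy2
  have hcT : c ∈ 𝐍 T := centralizer_le_normalizer _ fun x hx => (hc x hx).symm
  have hc4 : c ^ 2 ^ 2 = 1 := by rw [show 2 ^ 2 = 2 * 2 from rfl, pow_mul, hcz, hz2]
  have hS := Gold.syl_sup hT (isPGroup_zpowers_of_pow hc4) (zpowers_le.2 hcA) (zpowers_le.2 hcT)
  have hcz' : Commute c z := hcz ▸ (Commute.refl c).pow_right 2
  rcases hMu _ h1 (by rw [conj_pow, hy2]; group) with h2 | h2
  · exact hy1 (conj_eq_one_iff.1 h2)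
  refine hyz (ex hS (fun x hx => ?_) hz2 hz1 (mem_sup_left hg) h2 (mem_sup_right (mem_zpowers c)) (hc y hy) hcz
    fun x hx h => ?_)
  · obtain ⟨a, ha, i, rfl⟩ := (PGrp.mem_sup_zpowers_of_mem_normalizer hcT).1 hx
    have h3 : Commute a c := (hc a ha).symm
    exact Commute.mul_left (hcz ▸ h3.pow_right 2) (hcz'.zpow_left i)
  · obtain ⟨a, ha, i, rfl⟩ := (PGrp.mem_sup_zpowers_of_mem_normalizer hcT).1 hx
    have h3 : Commute a c := (hc a ha).symm
    have e : (a * c ^ i) ^ 2 = a ^ 2 * z ^ i := by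
      rw [(h3.zpow_right i).mul_pow, ← hcz, ← zpow_natCast, ← zpow_natCast c, ← zpow_natCast, ← zpow_mul,
        ← zpow_mul, mul_comm i]
    have h4 : Commute (a ^ 2) (z ^ i) := ((hcz ▸ h3.pow_right 2 : Commute a z).pow_left 2).zpow_right i
    have h5 : (z ^ i) ^ 2 = 1 := by rw [← zpow_natCast, ← zpow_mul, mul_comm, zpow_mul, zpow_natCast, hz2, one_zpow]
    have h6 : z ^ i = 1 ∨ z ^ i = z := by
      rcases Int.even_or_odd' i with ⟨j, rfl | rfl⟩
      · left; rw [zpow_mul, zpow_ofNat, hz2, one_zpow]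
      · right; rw [zpow_add, zpow_mul, zpow_ofNat, hz2, one_zpow, one_mul, zpow_one]
    rw [e] at h ⊢
    rw [h4.mul_pow, h5, mul_one] at h
    rcases hsq a ha h with h7 | h7 <;> rcases h6 with h8 | h8 <;> rw [h7, h8]
    · simp
    · simp
    · simp
    · left; rw [← sq, hz2]

/-- Brauer: a perfect group has no abelian Sylow 2-subgroup of order at least 16 with three involutions -/
theorem brauer0 {H : Type*} [Group H] [Finite H] (hH : Group.IsPerfect H) (P : Sylow 2 H)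
    (hab : ∀ a ∈ P, ∀ b ∈ P, a * b = b * a)
    (h3 : Nat.card {z : H // z ∈ (P : Subgroup H) ∧ orderOf z = 2} = 3) (h16 : 16 ∣ Nat.card P) : False := by
  have hA : ∀ a b : (P : Subgroup H), a * b = b * a := fun a b => Subtype.ext (hab a a.2 b b.2)
  rcases Lib.Block2.relIndex_centralizer_of_three_involutions P hab h3 with h | h
  · have h1 := relIndex_eq_one.1 h
    have h2 := MonoidHom.ker_transferSylow_isComplement' P h1
    have h4 : (MonoidHom.transferSylow P h1).ker = ⊤ := eq_top_iff.2 fun x _ =>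
      hom_eq_one hH _ (fun a b => hA _ _) x
    rw [h4, isComplement'_top_left] at h2
    rw [h2, card_bot] at h16
    omega
  · have hP := Lib.Transfer.sylowIn_top P
    obtain ⟨K, hK, h1, h2⟩ := Block.exists_normal_of_abThree_two hP hA (fun y hy h1 n hn =>
      Lib.Block2.mem_centralizer_of_three_involutions P hab h3 hn.2 hy h1
        (mul_inv_eq_iff_eq_mul.2 (Subgroup.mem_centralizer_singleton_iff.1 hn.1))) h h16
    have hPK : (P : Subgroup H) ≤ K := fun x hx => h1 fun y hy => hab y hy x hx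
    have hF := Sylow.normalizer_sup_eq_top' P hPK
    have h5 : K.relIndex (normalizer (P : Set H)) = 3 := by
      have e : K ⊓ normalizer (P : Set H) = centralizer (P : Set H) :=
        le_antisymm h2 (le_inf h1 (centralizer_le_normalizer _))
      rw [← inf_relIndex_right, e, h]
    have h6 : K.index = 3 := by
      rw [← relIndex_top_right, ← hF, relIndex_sup_right]; exact h5
    haveI : Fact (Nat.Prime 3) := ⟨Nat.prime_three⟩
    haveI := isCyclic_of_prime_card (α := H ⧸ K) (p := 3) h6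
    have h7 : K = ⊤ := eq_top_iff.2 fun x _ => (QuotientGroup.eq_one_iff x).1
      (hom_eq_one hH (QuotientGroup.mk' K) (fun a b => IsCyclic.isMulCommutative.is_comm.comm _ _) x)
    rw [h7, index_top] at h6
    omega

theorem brauer (hA : Group.IsPerfect A) (hT : Syl 2 T A) (hab : ∀ a ∈ T, ∀ b ∈ T, a * b = b * a)
    {a b c : G} (hab' : a ≠ b) (hac : a ≠ c) (hbc : b ≠ c)
    (h3 : ∀ x, x ∈ T ∧ orderOf x = 2 ↔ x = a ∨ x = b ∨ x = c) (h16 : 16 ∣ Nat.card T) : False := by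
  refine brauer0 hA hT.toSylow (fun a ha b hb => Subtype.ext (hab _ ha _ hb)) ?_ ?_
  · have e : {z : A // z ∈ (hT.toSylow : Subgroup A) ∧ orderOf z = 2} ≃ ({a, b, c} : Set G) :=
      { toFun := fun z => ⟨z.1, (h3 _).1 ⟨z.2.1, by rw [orderOf_coe]; exact z.2.2⟩⟩
        invFun := fun z => ⟨⟨z.1, hT.le ((h3 _).2 z.2).1⟩, ((h3 _).2 z.2).1, by
          rw [← orderOf_coe]; exact ((h3 _).2 z.2).2⟩
        left_inv := fun _ => rfl
        right_inv := fun _ => rfl }
    rw [Nat.card_congr e, Nat.card_coe_set_eq, Set.ncard_eq_three]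
    exact ⟨a, b, c, hab', hac, hbc, rfl⟩
  · rwa [hT.coe_toSylow, card_subgroupOf_of_le hT.le]

end Cfsg.Lib.Z4F
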