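import Cfsg.Agent.Lib.Z4F.A

/-! An involution with a small centralizer on a 2-group `T`: the subgroup `[T, t]` is cyclic. -/

set_option autoImplicit false
set_option linter.unusedSectionVars false
set_option linter.style.haveILetI false

namespace Cfsg.Lib.Z4F
open Subgroup Cfsg.Lib.Core Cfsg.Lib.Amalg
open scoped commutatorElement

variable {G : Type*} [Group G] [Finite G] {A T L S M K P : Subgroup G} {t w : G}

theorem mem_ext (hn : w ∈ 𝐍 K) (h2 : w ^ 2 ∈ K) {g : G} : g ∈ K ⊔ zpowers w ↔ g ∈ K ∨ g * w⁻¹ ∈ K := by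
  constructor
  · intro hg
    obtain ⟨a, ha, i, rfl⟩ := (PGrp.mem_sup_zpowers_of_mem_normalizer hn).1 hg
    rcases Int.even_or_odd' i with ⟨j, rfl | rfl⟩
    · left; rw [zpow_mul, zpow_ofNat]; exact K.mul_mem ha (K.zpow_mem h2 j)
    · right; rw [zpow_add, zpow_mul, zpow_ofNat, zpow_one, ← mul_assoc, mul_inv_cancel_right]
      exact K.mul_mem ha (K.zpow_mem h2 j)
  · rintro (h | h)
    · exact mem_sup_left h
    · simpa using mul_mem_sup h (mem_zpowers w)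

theorem idx_ext (hn : w ∈ 𝐍 K) (h2 : w ^ 2 ∈ K) (hw : w ∉ K) : K.relIndex (K ⊔ zpowers w) = 2 :=
  relIndex_eq_two_iff_exists_notMem_and.2 ⟨w⁻¹, inv_mem (mem_sup_right (mem_zpowers w)), by simpa using hw,
    fun _ hb => ((mem_ext hn h2).1 hb).symm⟩

theorem idx_ext4 (hKT : K ≤ T) (h4 : K.relIndex T = 4) (hwT : w ∈ T) (hn : w ∈ 𝐍 K) (h2 : w ^ 2 ∈ K) (hw : w ∉ K) :
    (K ⊔ zpowers w).relIndex T = 2 := by
  have := relIndex_mul_relIndex K (K ⊔ zpowers w) T le_sup_left (sup_le hKT (zpowers_le.2 hwT))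
  rw [idx_ext hn h2 hw, h4] at this
  omega

theorem mul_mem_of_idx (hM : M.relIndex T = 2) {a b : G} (ha : a ∈ T) (hb : b ∈ T) (h1 : a ∉ M) (h2 : b ∉ M) :
    a * b ∈ M :=
  (mul_mem_iff_of_index_two (H := M.subgroupOf T) hM (a := ⟨a, ha⟩) (b := ⟨b, hb⟩)).2 (iff_of_false h1 h2)

theorem conj_conj (ht : t ^ 2 = 1) (x : G) : t * (t * x * t⁻¹) * t⁻¹ = x := by
  calc _ = t ^ 2 * x * (t ^ 2)⁻¹ := by rw [sq]; group
    _ = x := by rw [ht]; group

/-- the commutator subgroup `[T, t]` -/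
def Kc (T : Subgroup G) (t : G) : Subgroup G := closure {w | ∃ x ∈ T, w = x⁻¹ * (t * x * t⁻¹)}

theorem mem_Kc {x : G} (hx : x ∈ T) : x⁻¹ * (t * x * t⁻¹) ∈ Kc T t := subset_closure ⟨x, hx, rfl⟩

theorem Kc_le (htT : t ∈ 𝐍 T) : Kc T t ≤ T := (closure_le _).2 (by
  rintro _ ⟨x, hx, rfl⟩
  exact T.mul_mem (T.inv_mem hx) ((mem_normalizer_iff.1 htT x).1 hx))

theorem le_norm_Kc : T ≤ 𝐍 (Kc T t) := fun y hy => mem_normalizer_of_cj_le (map_le_iff_le_comap.2 ((closure_le _).2 (by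
  rintro _ ⟨x, hx, rfl⟩
  have h1 := (Kc T t).mul_mem (mem_Kc (t := t) (T.mul_mem hx (T.inv_mem hy))) (inv_mem (mem_Kc (T.inv_mem hy)))
  change y * _ * y⁻¹ ∈ Kc T t
  convert h1 using 1; group)))

theorem t_norm_Kc (ht : t ^ 2 = 1) : t ∈ 𝐍 (Kc T t) := mem_normalizer_of_cj_le (map_le_iff_le_comap.2 ((closure_le _).2 (by
  rintro _ ⟨x, hx, rfl⟩
  have h1 := inv_mem (mem_Kc (t := t) hx)
  change t * _ * t⁻¹ ∈ Kc T t
  convert h1 using 1
  calc _ = (t * x * t⁻¹)⁻¹ * (t * (t * x * t⁻¹) * t⁻¹) := by group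
    _ = _ := by rw [conj_conj ht]; group)))

theorem Kc_surj (htT : t ∈ 𝐍 T) (h : Nat.card ↥(T ⊓ centralizer {t}) ≤ (Kc T t).relIndex T) :
    (∀ w ∈ Kc T t, ∃ x ∈ T, w = x⁻¹ * (t * x * t⁻¹)) ∧ (Kc T t).relIndex T = Nat.card ↥(T ⊓ centralizer {t}) := by
  set C := T ⊓ centralizer {t} with hC
  let g : T → Kc T t := fun x => ⟨_, mem_Kc (t := t) (T.inv_mem x.2)⟩
  have key : ∀ x y : T, g x = g y ↔ x⁻¹ * y ∈ C.subgroupOf T := fun x y => by
    rw [Subtype.ext_iff, mem_subgroupOf, mem_inf, mem_centralizer_singleton_iff]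
    simp only [g, inv_inv, coe_mul, coe_inv]
    constructor
    · intro e
      refine ⟨(x⁻¹ * y).2, ?_⟩
      calc _ = (x : G)⁻¹ * ((y : G) * (t * (y : G)⁻¹ * t⁻¹)) * t * y := by group
        _ = _ := by rw [← e]; group
    · rintro ⟨-, e⟩
      calc _ = (x : G) * (t * ((x : G)⁻¹ * y)) * (y : G)⁻¹ * t⁻¹ := by group
        _ = _ := by rw [← e]; group
  let F : T ⧸ C.subgroupOf T → Kc T t := Quotient.lift g fun x y e => (key x y).2 (QuotientGroup.leftRel_apply.1 e)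
  have hF : Function.Injective F := by
    rintro ⟨x⟩ ⟨y⟩ e
    exact QuotientGroup.eq.2 ((key x y).1 e)
  have h1 := card_mul_relIndex (Kc_le htT)
  have h2 := card_mul_relIndex (inf_le_left : C ≤ T)
  have h3 : C.relIndex T ≤ Nat.card (Kc T t) := Nat.card_le_card_of_injective F hF
  have hp1 : 0 < Nat.card (Kc T t) := Nat.card_pos
  have hp2 : 0 < Nat.card C := Nat.card_pos
  have h4 : Nat.card (Kc T t) ≤ C.relIndex T := by
    have : Nat.card (Kc T t) * Nat.card C ≤ C.relIndex T * Nat.card C := by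
      rw [mul_comm (C.relIndex T), h2, ← h1]; exact Nat.mul_le_mul_left _ h
    exact Nat.le_of_mul_le_mul_right this hp2
  refine ⟨fun w hw => ?_, ?_⟩
  · obtain ⟨⟨x⟩, hx⟩ := (hF.bijective_of_nat_card_le h4).2 ⟨w, hw⟩
    exact ⟨x⁻¹, T.inv_mem x.2, (congrArg Subtype.val hx).symm⟩
  · rw [le_antisymm h3 h4, ← h1, mul_comm] at h2
    exact (Nat.eq_of_mul_eq_mul_left hp1 h2).symm

theorem four_dvd {H : Type*} [Group H] [Finite H] (hH : IsPGroup 2 H) (h4 : 4 ≤ Nat.card H) :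
    4 ∣ (_root_.commutator H).index := by
  obtain ⟨n, hn⟩ := IsPGroup.iff_card.1 hH
  have h2 : 2 ≤ n := by
    by_contra h
    have : n = 0 ∨ n = 1 := by omega
    rcases this with rfl | rfl <;> omega
  obtain ⟨m, rfl⟩ := Nat.exists_eq_add_of_le' h2
  obtain ⟨N, hN, -, h1⟩ := PGrp.exists_normal_le_card_eq hH ⊤ m (by
    rw [card_top, hn]; exact Nat.pow_le_pow_right two_pos (by omega))
  have h3 : N.index = 2 ^ 2 := by
    have := N.card_mul_index
    rw [h1, hn, pow_add] at this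
    exact Nat.eq_of_mul_eq_mul_left (by positivity) this
  have h5 := Normal.quotient_commutative_iff_commutator_le.1
    (IsPGroup.isMulCommutative_of_card_eq_prime_sq (G := H ⧸ N) (p := 2) h3)
  exact (show 4 = N.index from h3.symm) ▸ index_dvd_of_le h5

theorem Kc_le_comm : (Kc T t).subgroupOf (T ⊔ zpowers t) ≤ _root_.commutator ↥(T ⊔ zpowers t) := by
  have : Kc T t ≤ (_root_.commutator ↥(T ⊔ zpowers t)).map (T ⊔ zpowers t).subtype := (closure_le _).2 (by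
    rintro _ ⟨x, hx, rfl⟩
    refine ⟨⁅(⟨x⁻¹, mem_sup_left (T.inv_mem hx)⟩ : ↥(T ⊔ zpowers t)), ⟨t, mem_sup_right (mem_zpowers t)⟩⁆,
      commutator_mem_commutator (mem_top _) (mem_top _), ?_⟩
    simp [commutatorElement_def, mul_assoc])
  intro x hx
  exact (mem_map_iff_mem (subtype_injective _)).1 (this hx)

theorem idx_S (ht : t ^ 2 = 1) (htT : t ∈ 𝐍 T) (h1 : t ∉ T) :
    ((Kc T t).subgroupOf (T ⊔ zpowers t)).index = (Kc T t).relIndex T * 2 := by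
  rw [← idx_ext htT (ht ▸ one_mem _) h1, relIndex_mul_relIndex _ _ _ (Kc_le htT) le_sup_left]; rfl

theorem pg_S (hT : IsPGroup 2 T) (ht : t ^ 2 = 1) (htT : t ∈ 𝐍 T) : IsPGroup 2 ↥(T ⊔ zpowers t) :=
  hT.to_sup_of_normal_left' (isPGroup_zpowers_of_pow (k := 1) ht) (zpowers_le.2 htT)

theorem card_S (ht : t ^ 2 = 1) (htT : t ∈ 𝐍 T) (h1 : t ∉ T) : Nat.card ↥(T ⊔ zpowers t) = Nat.card T * 2 := by
  rw [← idx_ext htT (ht ▸ one_mem _) h1, card_mul_relIndex le_sup_left]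

theorem two_dvd_idx (hT : IsPGroup 2 T) (ht : t ^ 2 = 1) (htT : t ∈ 𝐍 T) (h1 : t ∉ T) (h2 : 2 ≤ Nat.card T) :
    2 ∣ (Kc T t).relIndex T := by
  have := (four_dvd (pg_S hT ht htT) (by rw [card_S ht htT h1]; omega)).trans (index_dvd_of_le Kc_le_comm)
  rw [idx_S ht htT h1] at this
  omega

theorem max2_aux {H : Type*} [Group H] [Finite H] {a b t r : H} {m : ℕ} (h : PGrp.Max2 a b m) (ht : t ^ 2 = 1)
    (ht1 : t ≠ 1) (hr : r ^ 2 ≠ 1) (hr4 : (r ^ 2) ^ 2 = 1) (hrt : r ^ 2 ≠ t) (hc : Commute r t) : False := by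
  have hz := h.orderOf_z
  have two : ∀ w ∈ zpowers (a ^ 2 ^ (m + 1)), w = 1 ∨ w = a ^ 2 ^ (m + 1) := by
    rintro _ ⟨i, rfl⟩
    rcases Int.even_or_odd' i with ⟨j, rfl | rfl⟩
    · left; simp only; rw [zpow_mul, zpow_ofNat, Invol.sq_of_two hz, one_zpow]
    · right; simp only; rw [zpow_add, zpow_mul, zpow_ofNat, Invol.sq_of_two hz, one_zpow, one_mul, zpow_one]
  have inv : ∀ w ∈ zpowers a, w ^ 2 = 1 → w ≠ 1 → w = a ^ 2 ^ (m + 1) := fun w hw h2 h1 =>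
    (two w (PGrp.mem_zpowers_of_pow_eq_one (C := zpowers a) inferInstance hw (npow_mem_zpowers _ _)
      (by rw [hz, h2]))).resolve_left h1
  have cen : ∀ w ∈ zpowers a, ∀ c ∉ zpowers a, Commute w c → w ^ 2 = 1 := fun w hw c hc e => by
    have h1 : c * b⁻¹ ∈ zpowers a := (mul_mem_iff_of_index_two h.index).2 (by simp [hc, h.not_mem])
    have h2 : Commute w (c * b⁻¹) := by
      obtain ⟨i, rfl⟩ := hw
      obtain ⟨j, hj⟩ := h1
      rw [← hj]; exact Commute.zpow_zpow_self a i j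
    have h3 : Commute w b := by simpa using (e.inv_right.mul_right h2).inv_right
    rcases two w (h.inf_centralizer.le ⟨hw, mem_centralizer_singleton_iff.2 h3⟩) with rfl | rfl
    · simp
    · exact Invol.sq_of_two hz
  have hr2 : r ^ 2 ∈ zpowers a := sq_mem_of_index_two h.index r
  by_cases h1 : t ∈ zpowers a
  · exact hrt ((inv _ hr2 hr4 hr).trans (inv _ h1 ht ht1).symm)
  by_cases h2 : r ∈ zpowers a
  · exact hr (cen r h2 t h1 hc)
  · have := cen (r * t) ((mul_mem_iff_of_index_two h.index).2 (by simp [h1, h2])) t h1 (hc.mul_left (Commute.refl t))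
    rw [hc.mul_pow, ht, mul_one] at this
    exact hr this

theorem four_le_idx (hT : IsPGroup 2 T) (ht : t ^ 2 = 1) (htT : t ∈ 𝐍 T) (h1 : t ∉ T) {r : G} (hr : r ∈ T)
    (hr4 : orderOf r = 4) (hc : t * r * t⁻¹ = r) : 4 ≤ (Kc T t).relIndex T := by
  have h4 : 4 ≤ Nat.card T := by
    rw [← hr4, ← Nat.card_zpowers]; exact card_le_of_le (zpowers_le.2 hr)
  have h2 := two_dvd_idx hT ht htT h1 (by omega)
  by_contra hlt
  have h0 : (Kc T t).relIndex T ≠ 0 := index_ne_zero_of_finite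
  have h3 : ((Kc T t).subgroupOf (T ⊔ zpowers t)).index = 2 ^ 2 := by rw [idx_S ht htT h1]; omega
  haveI : ((Kc T t).subgroupOf (T ⊔ zpowers t)).Normal :=
    normal_subgroupOf_of_le_normalizer (sup_le le_norm_Kc (zpowers_le.2 (t_norm_Kc ht)))
  have h5 := Normal.quotient_commutative_iff_commutator_le.1
    (IsPGroup.isMulCommutative_of_card_eq_prime_sq (G := _ ⧸ (Kc T t).subgroupOf (T ⊔ zpowers t)) (p := 2) h3)
  obtain ⟨n, hn⟩ := IsPGroup.iff_card.1 (pg_S hT ht htT)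
  have h6 : 3 ≤ n := by
    rw [card_S ht htT h1] at hn
    by_contra h
    have : n = 0 ∨ n = 1 ∨ n = 2 := by omega
    rcases this with rfl | rfl | rfl <;> omega
  obtain ⟨m, rfl⟩ := Nat.exists_eq_add_of_le' h6
  obtain ⟨a, b, hab⟩ := PGrp.exists_max2_of_index_commutator hn (by rw [le_antisymm h5 Kc_le_comm, h3]; rfl)
  refine max2_aux hab (t := ⟨t, mem_sup_right (mem_zpowers t)⟩) (r := ⟨r, mem_sup_left hr⟩) (Subtype.ext ht)
    (fun e => h1 (by rw [show t = 1 from congrArg Subtype.val e]; exact one_mem _)) (fun e => ?_)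
    (Subtype.ext ?_) (fun e => h1 ?_) (Subtype.ext (mul_inv_eq_iff_eq_mul.1 hc).symm)
  · have := orderOf_dvd_of_pow_eq_one (show r ^ 2 = 1 from congrArg Subtype.val e)
    rw [hr4] at this; omega
  · change (r ^ 2) ^ 2 = 1
    rw [← pow_mul, show 2 * 2 = 4 from rfl, ← hr4, pow_orderOf_eq_one]
  · rw [← show r ^ 2 = t from congrArg Subtype.val e]; exact T.pow_mem hr 2

/-- the structure: a cyclic normal subgroup inverted by `t` -/
theorem kstruct (hT : IsPGroup 2 T) (ht : t ^ 2 = 1) (htT : t ∈ 𝐍 T)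
    (h : Nat.card ↥(T ⊓ centralizer {t}) ≤ (Kc T t).relIndex T)
    (hu : ∀ a ∈ T, ∀ b ∈ T, t * a * t⁻¹ = a → t * b * t⁻¹ = b → orderOf a = 2 → orderOf b = 2 → a = b) :
    ∃ k ∈ T, t * k * t⁻¹ = k⁻¹ ∧ (zpowers k).relIndex T = Nat.card ↥(T ⊓ centralizer {t}) ∧
      T ≤ 𝐍 (zpowers k) ∧ ∀ x ∈ T, x⁻¹ * (t * x * t⁻¹) ∈ zpowers k := by
  obtain ⟨h1, h2⟩ := Kc_surj htT h
  have hi : ∀ w ∈ Kc T t, t * w * t⁻¹ = w⁻¹ := fun w hw => by
    obtain ⟨x, -, rfl⟩ := h1 w hw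
    calc _ = (t * x * t⁻¹)⁻¹ * (t * (t * x * t⁻¹) * t⁻¹) := by group
      _ = _ := by rw [conj_conj ht]; group
  have hf : ∀ a ∈ Kc T t, orderOf a = 2 → t * a * t⁻¹ = a := fun a ha e => by
    rw [hi a ha, inv_eq_iff_mul_eq_one, ← sq, Invol.sq_of_two e]
  obtain ⟨k, hk⟩ := Block.exists_zpowers_eq_of_unique_involution (hT.to_le (Kc_le htT)) (fun a ha b hb => by
      have e := hi _ (mul_mem ha hb)
      rw [show t * (a * b) * t⁻¹ = (t * a * t⁻¹) * (t * b * t⁻¹) by group, hi a ha, hi b hb, ← mul_inv_rev,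
        inv_inj] at e
      exact e.symm)
    fun a ha b hb e1 e2 => hu a (Kc_le htT ha) b (Kc_le htT hb) (hf a ha e1) (hf b hb e2) e1 e2
  have hkK : k ∈ Kc T t := hk ▸ mem_zpowers k
  exact ⟨k, Kc_le htT hkK, hi k hkK, hk ▸ h2, hk ▸ le_norm_Kc, fun x hx => hk ▸ mem_Kc hx⟩

end Cfsg.Lib.Z4F
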