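import Cfsg.Agent.Lib.Z4F.B

/-! The configuration: `C_T(t) = ⟨r⟩` cyclic of order four, `[T, t] = ⟨k⟩`. -/

set_option autoImplicit false
set_option linter.unusedSectionVars false
set_option linter.style.haveILetI false

namespace Cfsg.Lib.Z4F
open Subgroup Cfsg.Lib.Core Cfsg.Lib.Amalg

variable {G : Type*} [Group G] [Finite G] {A T H : Subgroup G} {t r k y : G}

theorem odd_zpow {a : G} {n : ℕ} (ha : a ^ 2 ^ n = 1) {m : ℤ} (hm : Odd m) (h : a ^ m = 1) : a = 1 := by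
  obtain ⟨j, -, hj⟩ := (Nat.dvd_prime_pow Nat.prime_two).1 (orderOf_dvd_of_pow_eq_one ha)
  have h1 := orderOf_dvd_iff_zpow_eq_one.2 h
  rcases j with _ | j
  · exact orderOf_eq_one_iff.1 hj
  · rw [hj] at h1
    have : (2 : ℤ) ∣ m := Dvd.dvd.trans (by push_cast; exact Dvd.intro_left _ (pow_succ 2 j).symm) h1
    exact absurd (even_iff_two_dvd.2 this) (Int.not_even_iff_odd.2 hm)

theorem zpowers_odd {a : G} {n : ℕ} (ha : a ^ 2 ^ n = 1) {m : ℤ} (hm : Odd m) : zpowers (a ^ m) = zpowers a := by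
  refine le_antisymm (zpowers_le.2 (zpow_mem_zpowers _ _)) (zpowers_le.2 (mem_zpowers_zpow_iff.2 ?_))
  obtain ⟨j, -, hj⟩ := (Nat.dvd_prime_pow Nat.prime_two).1 (orderOf_dvd_of_pow_eq_one ha)
  rw [hj, ← Int.isCoprime_iff_gcd_eq_one]
  push_cast
  exact (Int.isCoprime_two_right.2 hm).pow_right

theorem not_sq {a w : G} {n : ℕ} (ha : a ^ 2 ^ n = 1) (h1 : a ≠ 1) (hw : w ∈ zpowers a) : w ^ 2 * a ≠ 1 := by
  obtain ⟨i, rfl⟩ := hw
  intro h
  refine h1 (odd_zpow ha (m := 2 * i + 1) (odd_two_mul_add_one i) ?_)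
  rw [zpow_add, zpow_one, mul_comm 2, zpow_mul, zpow_ofNat]; exact h

theorem comm_zp {a v w : G} (hv : v ∈ zpowers a) (hw : w ∈ zpowers a) : Commute v w := by
  obtain ⟨i, rfl⟩ := hv
  obtain ⟨j, rfl⟩ := hw
  exact Commute.zpow_zpow_self a i j

theorem inv_zp {a b w : G} (h : b * a * b⁻¹ = a⁻¹) (hw : w ∈ zpowers a) : b * w * b⁻¹ = w⁻¹ := by
  obtain ⟨i, rfl⟩ := hw
  simp only [← conj_zpow, h, inv_zpow]

theorem inv_zp' {b w : G} (h : b * w * b⁻¹ = w⁻¹) : b⁻¹ * w * b = w⁻¹ := by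
  calc _ = b⁻¹ * (w⁻¹)⁻¹ * b := by group
    _ = b⁻¹ * (b * w * b⁻¹)⁻¹ * b := by rw [h]
    _ = _ := by group

theorem comm_zp' {a b w : G} (h : Commute b a) (hw : w ∈ zpowers a) : Commute b w := by
  obtain ⟨i, rfl⟩ := hw
  exact h.zpow_right i

theorem exists_half {a : G} {n : ℕ} (ha : a ^ 2 ^ n = 1) (j : ℕ) (h1 : a ^ 2 ^ j ≠ 1) :
    ∃ w ∈ zpowers a, w ^ 2 ^ j ≠ 1 ∧ (w ^ 2 ^ j) ^ 2 = 1 := by
  induction n generalizing a with
  | zero => exact absurd (by rw [show a = 1 by simpa using ha, one_pow]) h1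
  | succ n ih =>
    by_cases h : (a ^ 2 ^ j) ^ 2 = 1
    · exact ⟨a, mem_zpowers a, h1, h⟩
    · obtain ⟨w, hw, h2⟩ := ih (a := a ^ 2) (by rw [← pow_mul, ← pow_succ', ha])
        (by rwa [← pow_mul, mul_comm, pow_mul])
      exact ⟨w, zpowers_le.2 (npow_mem_zpowers a 2) hw, h2⟩

theorem odd_trick (hT : Syl 2 T A) {h u : G} (hA : h ∈ A) (hn : h ∈ 𝐍 T) (hu : ∀ x ∈ T, Commute x u)
    (h2 : Commute (h ^ 2) u) : Commute h u := by
  obtain ⟨a, m, ⟨j, hj⟩, e⟩ := Nat.exists_eq_two_pow_mul_odd (orderOf_pos h).ne'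
  have h1 := hu _ (hT.mem_of_mem_normalizer (x := h ^ m) (k := a)
    (by rw [← pow_mul, mul_comm, ← e, pow_orderOf_eq_one]) (A.pow_mem hA m) (pow_mem hn m))
  rw [hj, pow_succ, pow_mul] at h1
  simpa using (h2.pow_left j).inv_left.mul_left h1

structure Cfg (A T : Subgroup G) (t r k : G) : Prop where
  perf : Group.IsPerfect A
  syl : Syl 2 T A
  t2 : t ^ 2 = 1
  tA : t ∈ 𝐍 A
  tT : t ∈ 𝐍 T
  tnA : t ∉ A
  rT : r ∈ T
  r4 : orderOf r = 4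
  tr : t * r * t⁻¹ = r
  cen : ∀ x ∈ T, t * x * t⁻¹ = x → x ∈ zpowers r
  rank : ∀ a ∈ A, ∀ b ∈ A, t * a * t⁻¹ = a → t * b * t⁻¹ = b → a ^ 2 = 1 → b ^ 2 = 1 → a ≠ 1 → b ≠ 1 →
    a * b = b * a → a = b
  kT : k ∈ T
  k1 : k ≠ 1
  tk : t * k * t⁻¹ = k⁻¹
  idx : (zpowers k).relIndex T = 4
  nK : T ≤ 𝐍 (zpowers k)
  ph : ∀ x ∈ T, x⁻¹ * (t * x * t⁻¹) ∈ zpowers k

theorem sq_sq_of_four (h : orderOf r = 4) : (r ^ 2) ^ 2 = 1 := by
  rw [← pow_mul, show 2 * 2 = 4 from rfl, ← h, pow_orderOf_eq_one]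

theorem sq_ne_of_four (h : orderOf r = 4) : r ^ 2 ≠ 1 := fun e => by
  have := orderOf_dvd_of_pow_eq_one e
  rw [h] at this; omega

theorem inv_of_four (h : orderOf r = 4) {x : G} (hx : x ∈ zpowers r) (h2 : x ^ 2 = 1) : x = 1 ∨ x = r ^ 2 := by
  obtain ⟨i, rfl⟩ := hx
  simp only at h2 ⊢
  rw [← zpow_natCast, ← zpow_mul, ← orderOf_dvd_iff_zpow_eq_one, h] at h2
  obtain ⟨j, rfl | rfl⟩ : ∃ j, i = 4 * j ∨ i = 4 * j + 2 := ⟨i / 4, by omega⟩
  · left; rw [zpow_mul, zpow_ofNat, ← h, pow_orderOf_eq_one, one_zpow]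
  · right; rw [zpow_add, zpow_mul, zpow_ofNat, ← h, pow_orderOf_eq_one, one_zpow, one_mul, zpow_ofNat]

namespace Cfg
variable (h : Cfg A T t r k)
include h

theorem z2 : (r ^ 2) ^ 2 = 1 := sq_sq_of_four h.r4
theorem z1 : r ^ 2 ≠ 1 := sq_ne_of_four h.r4
theorem KT : zpowers k ≤ T := zpowers_le.2 h.kT
theorem kpow : ∃ n, k ^ 2 ^ n = 1 := isPGroup_iff_mem.1 h.syl.isPGroup k h.kT
theorem invK {w : G} (hw : w ∈ zpowers k) : t * w * t⁻¹ = w⁻¹ := inv_zp h.tk hw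

theorem uniqK {w : G} (hw : w ∈ zpowers k) (h2 : w ^ 2 = 1) : w = 1 ∨ w = r ^ 2 :=
  inv_of_four h.r4 (h.cen w (h.KT hw) (by rw [h.invK hw, inv_eq_iff_mul_eq_one, ← sq, h2])) h2

theorem rK : r ∉ zpowers k := fun e => h.z1 (by
  have := h.invK e
  rw [h.tr, eq_inv_iff_mul_eq_one] at this
  rwa [sq])

theorem comm {a b : G} (ha : a ∈ T) (hb : b ∈ T) : a * b * a⁻¹ * b⁻¹ ∈ zpowers k := by
  haveI : ((zpowers k).subgroupOf T).Normal := normal_subgroupOf_of_le_normalizer h.nK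
  have h5 := Normal.quotient_commutative_iff_commutator_le.1
    (IsPGroup.isMulCommutative_of_card_eq_prime_sq (G := _ ⧸ (zpowers k).subgroupOf T) (p := 2) h.idx)
  exact h5 (commutator_mem_commutator (mem_top (⟨a, ha⟩ : T)) (mem_top ⟨b, hb⟩))

theorem zK : r ^ 2 ∈ zpowers k := by
  obtain ⟨n, hn⟩ := h.kpow
  obtain ⟨w, hw, h1, h2⟩ := exists_half hn 0 (by simpa using h.k1)
  simp only [pow_zero, pow_one] at h1 h2
  exact (h.uniqK hw h2).resolve_left h1 ▸ hw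

theorem zc {x : G} (hx : x ∈ T) : x * r ^ 2 = r ^ 2 * x := by
  have h1 := (mem_normalizer_iff.1 (h.nK hx) _).1 h.zK
  rcases h.uniqK h1 (by rw [conj_pow, h.z2]; group) with e | e
  · exact absurd (conj_eq_one_iff.1 e) h.z1
  · exact mul_inv_eq_iff_eq_mul.1 e

theorem tz : t * r ^ 2 * t⁻¹ = r ^ 2 := by rw [← conj_pow, h.tr]

theorem mem0 {g : G} : g ∈ zpowers k ⊔ zpowers r ↔ g ∈ zpowers k ∨ g * r⁻¹ ∈ zpowers k :=
  mem_ext (h.nK h.rT) h.zK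

theorem idx0 : (zpowers k ⊔ zpowers r).relIndex T = 2 := idx_ext4 h.KT h.idx h.rT (h.nK h.rT) h.zK h.rK

theorem sq0 {g : G} (hg : g ∈ zpowers k ⊔ zpowers r) : g ^ 2 ∈ zpowers k :=
  sq_mem_of_index_two (H := (zpowers k).subgroupOf (zpowers k ⊔ zpowers r)) (idx_ext (h.nK h.rT) h.zK h.rK) ⟨g, hg⟩

theorem sqT {g : G} (hg : g ∈ T) : g ^ 2 ∈ zpowers k ⊔ zpowers r :=
  sq_mem_of_index_two (H := (zpowers k ⊔ zpowers r).subgroupOf T) h.idx0 ⟨g, hg⟩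

theorem gen (hy : y ∈ T) (h0 : y ∉ zpowers k ⊔ zpowers r) : zpowers (y⁻¹ * (t * y * t⁻¹)) = zpowers k := by
  obtain ⟨i, hi⟩ := h.ph y hy
  obtain ⟨n, hn⟩ := h.kpow
  simp only at hi
  rcases Int.even_or_odd' i with ⟨j, rfl | rfl⟩
  · exfalso
    have h1 : t * (y * k ^ j) * t⁻¹ = y * k ^ j := by
      calc _ = y * (y⁻¹ * (t * y * t⁻¹)) * (t * k ^ j * t⁻¹) := by group
        _ = _ := by rw [← hi, h.invK (zpow_mem_zpowers k j)]; group
    have h2 := h.cen _ (T.mul_mem hy (T.zpow_mem h.kT j)) h1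
    apply h0
    simpa using mul_mem (mem_sup_right (S := zpowers k) h2) (mem_sup_left (inv_mem (zpow_mem_zpowers k j)))
  · rw [← hi]; exact zpowers_odd hn (odd_two_mul_add_one j)

theorem change {k' : G} (e : zpowers k' = zpowers k) : Cfg A T t r k' :=
  { h with
    kT := h.KT (e ▸ mem_zpowers k')
    k1 := fun e' => h.k1 (by rw [e', zpowers_one_eq_bot] at e; exact mem_bot.1 (e ▸ mem_zpowers k))
    tk := h.invK (e ▸ mem_zpowers k')
    idx := e ▸ h.idx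
    nK := e ▸ h.nK
    ph := e ▸ h.ph }

theorem gen_le (hy : y ∈ T) (h0 : y ∉ zpowers k ⊔ zpowers r) (hk : k ∈ H) (hr : r ∈ H) (hyH : y ∈ H) : T ≤ H := by
  have h1 : zpowers k ⊔ zpowers r ≤ H := sup_le (zpowers_le.2 hk) (zpowers_le.2 hr)
  intro x hx
  by_cases h2 : x ∈ zpowers k ⊔ zpowers r
  · exact h1 h2
  · simpa using H.mul_mem (h1 (mul_mem_of_idx h.idx0 hx hy h2 h0)) (H.inv_mem hyH)

theorem gen_comm (hy : y ∈ T) (h0 : y ∉ zpowers k ⊔ zpowers r) {c : G} (hk : Commute c k) (hr : Commute c r)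
    (hyc : Commute c y) {x : G} (hx : x ∈ T) : Commute c x :=
  (mem_centralizer_singleton_iff.1 (h.gen_le (H := centralizer {c}) hy h0 (mem_centralizer_singleton_iff.2 hk.symm)
    (mem_centralizer_singleton_iff.2 hr.symm) (mem_centralizer_singleton_iff.2 hyc.symm) hx)).symm

theorem rel (hy : y ∈ T) (hk : t * y * t⁻¹ = y * k) : ∃ w ∈ zpowers k, y⁻¹ * r * y = r * w ∧
    r⁻¹ * k * r = k * w ^ 2 ∧ r⁻¹ * w * r = w⁻¹ ∧ (w ^ 2 = 1 ∨ (w * k) ^ 2 = 1) := by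
  have hw : r⁻¹ * (y⁻¹ * r * y) ∈ zpowers k := by
    simpa [mul_assoc] using h.comm (T.inv_mem h.rT) (T.inv_mem hy)
  generalize e : r⁻¹ * (y⁻¹ * r * y) = w at hw
  have e1 : y⁻¹ * r * y = r * w := by rw [← e]; group
  have c := comm_zp hw (mem_zpowers k)
  have e2 : r⁻¹ * k * r = k * w ^ 2 := by
    have : t * (y⁻¹ * r * y) * t⁻¹ = k⁻¹ * (r * w) * k := by
      calc _ = (t * y * t⁻¹)⁻¹ * (t * r * t⁻¹) * (t * y * t⁻¹) := by group
        _ = k⁻¹ * (y⁻¹ * r * y) * k := by rw [hk, h.tr]; group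
        _ = _ := by rw [e1]
    rw [e1, show t * (r * w) * t⁻¹ = (t * r * t⁻¹) * (t * w * t⁻¹) by group, h.tr, h.invK hw] at this
    calc _ = r⁻¹ * k * (r * w⁻¹) * w := by group
      _ = w * k * w := by rw [this]; group
      _ = _ := by rw [c.eq, sq, mul_assoc]
  have e3 : r⁻¹ * w * r = w⁻¹ := by
    have : (r * w) ^ 2 = r ^ 2 := by
      rw [← e1, show y⁻¹ * r * y = y⁻¹ * r * y⁻¹⁻¹ by group, conj_pow, h.zc (T.inv_mem hy)]; group
    calc _ = (r ^ 2)⁻¹ * (r * w) ^ 2 * w⁻¹ := by simp only [sq]; group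
      _ = _ := by rw [this]; group
  refine ⟨w, hw, e1, e2, e3, ?_⟩
  obtain ⟨j, rfl⟩ := hw
  obtain ⟨n, hn⟩ := h.kpow
  simp only at e2 e3 ⊢
  have e4 : k ^ (j * (2 * j + 2)) = 1 := by
    have : r⁻¹ * k ^ j * r = (k * (k ^ j) ^ 2) ^ j := by
      rw [← e2, show r⁻¹ * k * r = r⁻¹ * k * r⁻¹⁻¹ by group, conj_zpow]; group
    rw [e3] at this
    calc _ = k ^ j * (k * (k ^ j) ^ 2) ^ j := by group
      _ = 1 := by rw [← this]; group
  have hp : ∀ i : ℤ, (k ^ i) ^ 2 ^ n = 1 := fun i => by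
    rw [← zpow_natCast, ← zpow_mul, mul_comm, zpow_mul, zpow_natCast, hn, one_zpow]
  rcases Int.even_or_odd j with hj | hj
  · left
    have := odd_zpow (hp (2 * j)) hj.add_one (by rw [← e4]; group)
    rw [← this]; group
  · right
    have := odd_zpow (hp (2 * j + 2)) hj (by rw [← e4]; group)
    rw [← this]; group

theorem dich : (∀ w ∈ zpowers k, r * w * r⁻¹ = w⁻¹) ∨ ∀ w ∈ zpowers k, Commute r w := by
  obtain ⟨y, hy, h0, -⟩ := relIndex_eq_two_iff_exists_notMem_and.1 h.idx0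
  have e := h.gen hy h0
  obtain ⟨w, hw, -, e2, -, h1 | h1⟩ := (h.change e).rel hy (by group)
  · right
    intro v hv
    refine comm_zp' ?_ (e ▸ hv)
    rw [h1, mul_one] at e2
    rw [Commute, SemiconjBy]
    conv_lhs => rw [← e2]
    group
  · left
    intro v hv
    refine inv_zp ?_ (e ▸ hv)
    generalize y⁻¹ * (t * y * t⁻¹) = a at *
    rw [(comm_zp hw (mem_zpowers a)).mul_pow, ← eq_inv_iff_mul_eq_one] at h1
    have : r⁻¹ * a * r⁻¹⁻¹ = a⁻¹ := by rw [inv_inv, e2, h1, sq]; group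
    simpa using inv_zp' this

end Cfg

end Cfsg.Lib.Z4F
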