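import Cfsg.Agent.Lib.Z4F.C

/-! The case analysis, first part. -/

set_option autoImplicit false
set_option linter.unusedSectionVars false
set_option linter.style.haveILetI false

namespace Cfsg.Lib.Z4F
open Subgroup Cfsg.Lib.Core Cfsg.Lib.Amalg

variable {G : Type*} [Group G] [Finite G] {A T H : Subgroup G} {t r k y : G}

theorem sq_mul_inv {w b : G} (h : b * w * b⁻¹ = w⁻¹) : (w * b) ^ 2 = b ^ 2 := by
  calc _ = w * (b * w * b⁻¹) * b ^ 2 := by simp only [sq]; group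
    _ = _ := by rw [h]; group

namespace Cfg
variable (h : Cfg A T t r k)
include h

theorem roots {ρ w : G} (hρ : ρ ∈ zpowers k) (hρ2 : ρ ^ 2 = r ^ 2) (hw : w ∈ zpowers k) (hw2 : w ^ 2 = r ^ 2) :
    w = ρ ∨ w = ρ * r ^ 2 := by
  have c := comm_zp hw (inv_mem hρ)
  rcases h.uniqK (mul_mem hw (inv_mem hρ)) (by rw [c.mul_pow, inv_pow, hw2, hρ2, mul_inv_cancel]) with e | e
  · exact Or.inl (mul_inv_eq_one.1 e)
  · right; rw [h.zc (h.KT hρ), ← e]; group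

theorem root_of {w : G} (hc : Commute r w) (h2 : (w * r) ^ 2 = 1) : w ^ 2 = r ^ 2 := by
  rw [hc.symm.mul_pow, ← eq_inv_iff_mul_eq_one] at h2
  rw [h2, inv_eq_iff_mul_eq_one, ← sq, h.z2]

theorem caseA (hA : ∀ x ∈ T, x ^ 2 = 1 → x ∈ zpowers k ⊔ zpowers r) {v : G} (hv : v ∈ T) (hv2 : v ^ 2 = 1)
    (hv1 : v ≠ 1) (hvz : v ≠ r ^ 2) : False := by
  have hvK : v ∉ zpowers k := fun e => (h.uniqK e hv2).elim hv1 hvz
  obtain ⟨ρ, hρ, rfl⟩ : ∃ ρ ∈ zpowers k, v = ρ * r :=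
    ⟨v * r⁻¹, (h.mem0.1 (hA v hv hv2)).resolve_left hvK, by group⟩
  rcases h.dich with hd | hd
  · exact h.z1 (by rw [← sq_mul_inv (hd ρ hρ), hv2])
  have hρ2 := h.root_of (hd ρ hρ) hv2
  obtain ⟨g, hg, h1, h2⟩ := gt h.perf h.syl (K := zpowers k) (fun a ha b hb => h.comm ha hb) hv hv2 hvK
  have h3 : (g * (ρ * r) * g⁻¹) ^ 2 = 1 := by rw [conj_pow, hv2]; group
  have h4 : g * (ρ * r) * g⁻¹ = r ^ 2 := by
    rcases h.mem0.1 (hA _ h1 h3) with e | e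
    · exact (h.uniqK e h3).resolve_left fun e' => hv1 (conj_eq_one_iff.1 e')
    · exact absurd (by simpa [mul_assoc] using mul_mem e (inv_mem hρ)) h2
  obtain ⟨f, -, h5, h6⟩ := ex0 h.syl (fun x hx => h.zc hx) hg h4 (h.syl.isPGroup.to_le h.KT) (h.KT.trans h.syl.le)
    fun s hs => ((comm_zp hs hρ).mul_right (hd s hs).symm)
  have hy := h6 ρ hρ
  have hy2 : (f * ρ * f⁻¹) ^ 2 = f * r ^ 2 * f⁻¹ := by rw [conj_pow, hρ2]
  have hz' : (f * r ^ 2 * f⁻¹) ^ 2 = 1 := by rw [conj_pow, h.z2]; group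
  have hK' : f * r ^ 2 * f⁻¹ ∉ zpowers k := fun e => by
    rcases h.uniqK e hz' with e' | e'
    · exact h.z1 (conj_eq_one_iff.1 e')
    · exact hvz (by simpa using h5.trans e'.symm)
  have h0 : f * ρ * f⁻¹ ∉ zpowers k ⊔ zpowers r := fun e => hK' (hy2 ▸ h.sq0 e)
  have hρK : zpowers ρ = zpowers k := by
    obtain ⟨i, rfl⟩ := hρ
    obtain ⟨n, hn⟩ := h.kpow
    rcases Int.even_or_odd' i with ⟨j, rfl | rfl⟩
    · refine absurd ?_ h0
      have := h.sqT (h6 _ (zpow_mem_zpowers k j))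
      rwa [conj_pow, ← zpow_natCast, ← zpow_mul, mul_comm j] at this
    · exact zpowers_odd hn (odd_two_mul_add_one j)
  have e := h.gen hy h0
  generalize f * ρ * f⁻¹ = y at *
  generalize f * r ^ 2 * f⁻¹ = z' at *
  generalize hκ : y⁻¹ * (t * y * t⁻¹) = κ at *
  have hκK : κ ∈ zpowers k := e ▸ mem_zpowers κ
  have hκ2 : κ ^ 2 = r ^ 2 := by
    refine (h.uniqK (pow_mem hκK 2) ?_).resolve_left fun e' => h.z1 ?_
    · obtain ⟨i, rfl⟩ := hρK.ge hκK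
      simp only
      calc _ = ((ρ ^ 2) ^ 2) ^ i := by group
        _ = 1 := by rw [hρ2, h.z2, one_zpow]
    · obtain ⟨i, rfl⟩ := e.ge hρ
      simp only at hρ2
      calc _ = (κ ^ 2) ^ i := by rw [← hρ2]; group
        _ = 1 := by rw [e', one_zpow]
  obtain ⟨w, hw, rfl⟩ : ∃ w ∈ zpowers k, z' = w * r :=
    ⟨z' * r⁻¹, (h.mem0.1 (hA z' (hy2 ▸ T.pow_mem hy 2) hz')).resolve_left hK', by group⟩
  have hw2 := h.root_of (hd w hw) hz'
  have hyκ : Commute y κ := by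
    have e1 : t * y * t⁻¹ = y * κ := by rw [← hκ]; group
    have e2 : (y * κ) ^ 2 = w⁻¹ * r := by
      rw [← e1, conj_pow, hy2, show t * (w * r) * t⁻¹ = (t * w * t⁻¹) * (t * r * t⁻¹) by group, h.invK hw, h.tr]
    have e3 : w⁻¹ * r = y ^ 2 * κ ^ 2 := by
      rw [hy2, hκ2, ← hw2, mul_assoc, ((hd w hw).pow_right 2).eq, ← mul_assoc, ← pow_succ', inv_mul_eq_iff_eq_mul,
        ← mul_assoc, ← pow_succ', show 2 + 1 + 1 = 2 * 2 from rfl, pow_mul, hw2, h.z2, one_mul]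
    rw [e3] at e2
    rw [Commute, SemiconjBy]
    calc _ = y⁻¹ * (y ^ 2 * κ ^ 2) * κ⁻¹ := by simp only [sq]; group
      _ = _ := by rw [← e2]; simp only [sq]; group
  have hyK : ∀ s ∈ zpowers k, Commute y s := fun s hs => comm_zp' hyκ (e ▸ hs)
  have hyr : Commute y r := by
    have := ((hyK w hw).inv_right.mul_right (hy2 ▸ (Commute.refl y).pow_right 2 : Commute y (w * r)))
    simpa using this
  have hk := mem_zpowers k
  refine brauer h.perf h.syl (fun a ha b hb => ?_) (a := r ^ 2) (b := ρ * r) (c := ρ * r ^ 2 * r) hvz.symm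
    (fun e' => ?_) (fun e' => h.z1 (by simpa using e'.symm)) (fun x => ⟨fun ⟨hx, h2⟩ => ?_, ?_⟩) ?_
  · exact h.gen_comm hy h0 (h.gen_comm hy h0 (Commute.refl k) (hd k hk).symm (hyK k hk).symm ha).symm
      (h.gen_comm hy h0 (hd k hk) (Commute.refl r) hyr.symm ha).symm
      (h.gen_comm hy h0 (hyK k hk) hyr (Commute.refl y) ha).symm hb
  · apply h.rK
    have : r = (ρ * r ^ 2)⁻¹ * r ^ 2 := by
      conv_rhs => rw [show (ρ * r ^ 2)⁻¹ * r ^ 2 = (ρ * r ^ 2)⁻¹ * (ρ * r ^ 2 * r) from congrArg _ e']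
      group
    rw [this]; exact mul_mem (inv_mem (mul_mem hρ h.zK)) h.zK
  · have h2' := Invol.sq_of_two h2
    rcases h.mem0.1 (hA x hx h2') with e' | e'
    · exact Or.inl ((h.uniqK e' h2').resolve_left (Invol.ne_one_of_two h2))
    · right
      rcases h.roots hρ hρ2 e' (h.root_of (hd _ e') (by simpa using h2')) with e'' | e''
      · left; rw [← e'']; group
      · right; rw [← e'']; group
  · rintro (rfl | rfl | rfl)
    · exact ⟨T.pow_mem h.rT 2, Invol.two_of_sq h.z2 h.z1⟩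
    · exact ⟨hv, Invol.two_of_sq hv2 hv1⟩
    · have hm := mul_mem hρ h.zK
      refine ⟨T.mul_mem (h.KT hm) h.rT, Invol.two_of_sq ?_ fun e' => h.rK ?_⟩
      · rw [(hd _ hm).symm.mul_pow, (comm_zp hρ h.zK).mul_pow, h.z2, hρ2, mul_one, ← sq, h.z2]
      · rw [eq_inv_of_mul_eq_one_right e']; exact inv_mem hm
  · have h7 := card_mul_relIndex h.KT
    have h8 : orderOf ρ = 2 ^ 2 := orderOf_eq_prime_pow (by rw [pow_one, hρ2]; exact h.z1)
      (by rw [show 2 ^ (1 + 1) = 2 * 2 from rfl, pow_mul, hρ2, h.z2])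
    rw [← h7, h.idx, ← hρK, Nat.card_zpowers, h8]
    norm_num

variable (hy : y ∈ T) (h0 : y ∉ zpowers k ⊔ zpowers r) (hy2 : y ^ 2 = 1) (hk : t * y * t⁻¹ = y * k)
include hy h0 hy2 hk

theorem yinv {w : G} (hw : w ∈ zpowers k) : y * w * y⁻¹ = w⁻¹ := by
  refine inv_zp ?_ hw
  have : (y * k) ^ 2 = 1 := by rw [← hk, conj_pow, hy2]; group
  calc _ = (y * k) ^ 2 * k⁻¹ * (y ^ 2)⁻¹ := by simp only [sq]; group
    _ = _ := by rw [this, hy2]; group

theorem sqK {x : G} (hx : x ∈ T) : x ^ 2 ∈ zpowers k := by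
  by_cases h1 : x ∈ zpowers k ⊔ zpowers r
  · exact h.sq0 h1
  · have h2 := mul_mem_of_idx h.idx0 hx hy h1 h0
    have h3 := mul_mem (h.sq0 h2) (h.comm (T.inv_mem (T.mul_mem hx hy)) hy)
    convert h3 using 1
    calc _ = x * y ^ 2 * x := by rw [hy2, mul_one, sq]
      _ = _ := by simp only [sq]; group

theorem hsq {x : G} (hx : x ∈ T) (h2 : (x ^ 2) ^ 2 = 1) : x ^ 2 = 1 ∨ x ^ 2 = r ^ 2 :=
  h.uniqK (h.sqK hy h0 hy2 hk hx) h2

omit hy hy2 hk in
theorem yK : y ∉ zpowers k := fun e => h0 (mem_sup_left e)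

omit hy hy2 hk in
theorem y1 : y ≠ 1 := fun e => h0 (e ▸ one_mem _)

omit hy hy2 hk in
theorem yz : y ≠ r ^ 2 := fun e => h.yK h0 (e ▸ h.zK)

theorem idxy : (zpowers k ⊔ zpowers y).relIndex T = 2 :=
  idx_ext4 h.KT h.idx hy (h.nK hy) (hy2 ▸ one_mem _) (h.yK h0)

theorem memy {g : G} (hg : g ∈ zpowers k ⊔ zpowers y) : g ∈ zpowers k ∨ ∃ w ∈ zpowers k, g = w * y :=
  ((mem_ext (h.nK hy) (hy2 ▸ one_mem _)).1 hg).imp_right fun e => ⟨_, e, by group⟩

theorem caseB1 (hry : Commute r y) (hrk : Commute r k) : False := by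
  have hm : y * r ∈ T := T.mul_mem hy h.rT
  have h2 : (y * r) ^ 2 = r ^ 2 := by rw [hry.symm.mul_pow, hy2, one_mul]
  have hK : y * r ∉ zpowers k := fun e => h0 (by
    simpa using mul_mem (mem_sup_left (T := zpowers r) e) (mem_sup_right (inv_mem (mem_zpowers r))))
  refine ctrick h.perf h.syl (c := r) (le_normalizer (h.syl.le h.rT))
    (fun x hx => h.gen_comm hy h0 hrk (Commute.refl r) hry hx) rfl h.z2 h.z1
    (idx_ext4 h.KT h.idx hm (h.nK hm) (h2 ▸ h.zK) hK) (fun m hmM hm2 => ?_) hy hy2 (h.y1 h0) (h.yz h0)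
    fun x hx => h.hsq hy h0 hy2 hk hx
  rcases (mem_ext (h.nK hm) (h2 ▸ h.zK)).1 hmM with e | e
  · exact h.uniqK e hm2
  · exfalso
    obtain ⟨w, hw, rfl⟩ : ∃ w ∈ zpowers k, m = w * (y * r) := ⟨_, e, by group⟩
    rw [sq_mul_inv, h2] at hm2
    · exact h.z1 hm2
    · calc _ = y * (r * w) * r⁻¹ * y⁻¹ := by group
        _ = y * w * y⁻¹ := by rw [(comm_zp' hrk hw).eq]; group
        _ = _ := h.yinv hy h0 hy2 hk hw

theorem caseB3a (hw : y⁻¹ * r * y = r * k⁻¹) (hrk : r * k * r⁻¹ = k⁻¹) : False := by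
  have htr : Commute t r := mul_inv_eq_iff_eq_mul.1 h.tr
  refine ctrick h.perf h.syl (c := t * r) (mul_mem h.tA (le_normalizer (h.syl.le h.rT)))
    (fun x hx => h.gen_comm hy h0 ?_ (htr.mul_left (Commute.refl r)) ?_ hx)
    (by rw [htr.mul_pow, h.t2, one_mul]) h.z2 h.z1 h.idx0 (fun m hmM hm2 => ?_) hy hy2 (h.y1 h0) (h.yz h0)
    fun x hx => h.hsq hy h0 hy2 hk hx
  · refine mul_inv_eq_iff_eq_mul.1 ?_
    calc _ = t * (r * k * r⁻¹) * t⁻¹ := by group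
      _ = (t * k * t⁻¹)⁻¹ := by rw [hrk]; group
      _ = _ := by rw [h.tk, inv_inv]
  · refine mul_inv_eq_iff_eq_mul.1 ?_
    calc _ = t * (y * (y⁻¹ * r * y) * r⁻¹) * t⁻¹ := by group
      _ = t * (y * (r * k * r⁻¹)⁻¹) * t⁻¹ := by rw [hw]; group
      _ = (t * y * t⁻¹) * (t * k * t⁻¹) := by rw [hrk]; group
      _ = _ := by rw [hk, h.tk]; group
  · rcases h.mem0.1 hmM with e | e
    · exact h.uniqK e hm2
    · exfalso
      obtain ⟨w, hw, rfl⟩ : ∃ w ∈ zpowers k, m = w * r := ⟨_, e, by group⟩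
      rw [sq_mul_inv (inv_zp hrk hw)] at hm2
      exact h.z1 hm2

theorem caseB3b (hw : y⁻¹ * r * y = r * (r ^ 2 * k⁻¹)) (hrk : r * k * r⁻¹ = k⁻¹) : False := by
  obtain ⟨n, hn⟩ := h.kpow
  have hk' := mem_zpowers k
  have yi := fun w (hw : w ∈ zpowers k) => h.yinv hy h0 hy2 hk hw
  have ri := fun w (hw : w ∈ zpowers k) => inv_zp hrk hw
  have hzi : (r ^ 2)⁻¹ = r ^ 2 := by rw [inv_eq_iff_mul_eq_one, ← sq, h.z2]
  have hyi : y⁻¹ = y := by rw [inv_eq_iff_mul_eq_one, ← sq, hy2]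
  have hti : t⁻¹ = t := by rw [inv_eq_iff_mul_eq_one, ← sq, h.t2]
  have hrM : r⁻¹ ∉ zpowers k ⊔ zpowers y := fun e => by
    rcases h.memy hy h0 hy2 hk e with e | ⟨w, hw, e⟩
    · exact h.rK (inv_mem_iff.1 e)
    · apply h0
      rw [show y = w⁻¹ * r⁻¹ by rw [e]; group]
      exact mul_mem (mem_sup_left (inv_mem hw)) (mem_sup_right (inv_mem (mem_zpowers r)))
  have cos : ∀ x ∈ T, x ∈ zpowers k ∨ (∃ w ∈ zpowers k, x = w * y) ∨ (∃ w ∈ zpowers k, x = w * r) ∨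
      ∃ w ∈ zpowers k, x = w * (y * r) := fun x hx => by
    by_cases e : x ∈ zpowers k ⊔ zpowers y
    · exact (h.memy hy h0 hy2 hk e).imp_right Or.inl
    · right; right
      rcases h.memy hy h0 hy2 hk (mul_mem_of_idx (h.idxy hy h0 hy2 hk) hx (T.inv_mem h.rT) e hrM) with e | ⟨w, hw, e⟩
      · exact Or.inl ⟨_, e, by group⟩
      · exact Or.inr ⟨w, hw, by rw [← mul_assoc, ← e]; group⟩
  have yrc : ∀ w ∈ zpowers k, (y * r) * w * (y * r)⁻¹ = w := fun w hw => by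
    calc _ = y * (r * w * r⁻¹) * y⁻¹ := by group
      _ = (y * w * y⁻¹)⁻¹ := by rw [ri w hw]; group
      _ = _ := by rw [yi w hw, inv_inv]
  have yr2 : (y * r) ^ 2 = k := by
    calc _ = y ^ 2 * (y⁻¹ * r * y) * r := by simp only [sq]; group
      _ = (r ^ 2) ^ 2 * (r⁻¹ * k * r)⁻¹ := by rw [hw, hy2]; group
      _ = _ := by rw [inv_zp' hrk, h.z2]; group
  obtain ⟨g, hg, hρ⟩ := ttpow h.perf h.syl (h.idxy hy h0 hy2 hk) (h.syl.le h.rT) (n := 2)
    (by rw [show 2 ^ 2 = 2 * 2 from rfl, pow_mul, h.z2]) (by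
      rintro _ g - ⟨j, rfl⟩ hx
      have h2 : (g * r ^ (j + j) * g⁻¹) ^ 2 = 1 := by
        rw [conj_pow, ← two_mul, ← pow_mul, mul_right_comm, pow_mul, pow_mul, h.z2]; group
      generalize g * r ^ (j + j) * g⁻¹ = x at *
      rcases cos x hx with e | ⟨w, hw, rfl⟩ | ⟨w, hw, rfl⟩ | ⟨w, hw, rfl⟩
      · exact mem_sup_left e
      · exact mul_mem_sup hw (mem_zpowers y)
      · exact absurd (by rw [← h2, sq_mul_inv (ri w hw)]) h.z1
      · have c : Commute (y * r) w := mul_inv_eq_iff_eq_mul.1 (yrc w hw)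
        rw [c.symm.mul_pow, yr2] at h2
        exact absurd h2 (not_sq hn h.k1 hw))
  have hρ1 : (g * r * g⁻¹) ^ 2 ≠ 1 := by rw [conj_pow]; exact fun e => h.z1 (conj_eq_one_iff.1 e)
  have hρ4 : ((g * r * g⁻¹) ^ 2) ^ 2 = 1 := by rw [conj_pow, conj_pow, h.z2]; group
  have hc : Commute (g * t * g⁻¹) (g * r * g⁻¹) := by
    have : Commute t r := mul_inv_eq_iff_eq_mul.1 h.tr
    exact this.map (MulAut.conj g)
  generalize g * r * g⁻¹ = ρ at *
  have hρK : ρ ∈ zpowers k := (h.memy hy h0 hy2 hk hρ).resolve_right fun ⟨w, hw, e⟩ =>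
    hρ1 (by rw [e, sq_mul_inv (yi w hw), hy2])
  have htp := isPGroup_zpowers_of_pow (p := 2) (k := 1) h.t2
  have hS := Gold.syl_sup h.syl htp (zpowers_le.2 h.tA) (zpowers_le.2 h.tT)
  have hN := PGrp.normalizer_le_normalizer_of_isCyclic (C := zpowers k) inferInstance (zpowers_le.2 hρK)
  have htK : t ∈ 𝐍 (zpowers k) := mem_normalizer_of_cj_le (cj_le_iff'.2 fun w hw => h.invK hw ▸ inv_mem hw)
  have hS' : Syl 2 (T ⊔ zpowers t) ((A ⊔ zpowers t) ⊓ 𝐍 (zpowers ρ)) :=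
    hS.of_le (le_inf hS.le (sup_le (h.nK.trans hN) (zpowers_le.2 (hN htK)))) inf_le_left
  have hLA : A ⊔ zpowers t ≤ 𝐍 A := sup_le le_normalizer (zpowers_le.2 h.tA)
  have hgL : g ∈ A ⊔ zpowers t := mem_sup_left hg
  obtain ⟨f, hf, e⟩ := hS'.exists_conj_le (P := zpowers (g * t * g⁻¹))
    (isPGroup_zpowers_of_pow (k := 1) (by rw [conj_pow, pow_one, h.t2]; group)) (zpowers_le.2
      (mem_inf.2 ⟨mul_mem (mul_mem hgL (mem_sup_right (mem_zpowers t))) (inv_mem hgL), centralizer_le_normalizer _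
        fun w hw => (comm_zp' hc hw).symm⟩))
  have h1 := e (conj_mem_cj f (mem_zpowers _))
  have h2 : Commute (f * (g * t * g⁻¹) * f⁻¹) ρ := by
    have hf2 : f ∈ 𝐍 (zpowers ρ) := (mem_inf.1 hf).2
    have h3 := (mem_normalizer_iff.1 (inv_mem hf2) ρ).1 (mem_zpowers ρ)
    simpa [mul_assoc] using (comm_zp' hc h3).map (MulAut.conj f)
  have hF : f * g ∈ 𝐍 A := hLA (mul_mem hf.1 hgL)
  have h4 : f * (g * t * g⁻¹) * f⁻¹ = (f * g) * t * (f * g)⁻¹ := by group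
  rw [h4] at h1 h2
  generalize f * g = F at *
  have h5 : (F * t * F⁻¹) ^ 2 = 1 := by rw [conj_pow, h.t2]; group
  obtain ⟨x, hx, h6⟩ : ∃ x ∈ T, F * t * F⁻¹ = x * t := by
    rcases (mem_ext h.tT (h.t2 ▸ one_mem _)).1 h1 with e | e
    · exact absurd ((mem_normalizer_iff.1 hF t).2 (h.syl.le e)) h.tnA
    · exact ⟨_, e, by group⟩
  rw [h6] at h2 h5
  have h7 : x * ρ * x⁻¹ = ρ⁻¹ := by
    calc _ = (x * (t * ρ * t⁻¹) * x⁻¹)⁻¹ := by rw [h.invK hρK]; group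
      _ = (x * t * ρ * (x * t)⁻¹)⁻¹ := by group
      _ = _ := by rw [h2.eq]; group
  have h8 : x * (t * x * t⁻¹) = 1 := by rw [← h5, hti]; simp only [sq]; group
  have h9 : ρ ≠ ρ⁻¹ := fun e => hρ1 (by rw [sq]; exact mul_eq_one_iff_eq_inv.2 e)
  rcases cos x hx with e | ⟨w, hw, rfl⟩ | ⟨w, hw', rfl⟩ | ⟨w, hw, rfl⟩
  · rw [(comm_zp e hρK).eq, mul_inv_cancel_right] at h7; exact h9 h7
  · refine not_sq hn h.k1 hw ?_
    calc _ = w * (y * w * y⁻¹)⁻¹ * y ^ 2 * k := by rw [yi w hw, hy2, sq]; group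
      _ = w * y * (w⁻¹ * (y * k)) := by simp only [sq]; group
      _ = _ := by rw [← hk, ← h.invK hw, ← h8]; group
  · have h10 : w ^ 2 = r ^ 2 := by
      rw [← hzi, eq_inv_iff_mul_eq_one]
      calc _ = w * (r * w * r⁻¹)⁻¹ * r ^ 2 := by rw [ri w hw', sq]; group
        _ = w * r * ((t * w * t⁻¹) * (t * r * t⁻¹)) := by rw [h.invK hw', h.tr]; simp only [sq]; group
        _ = _ := by rw [← h8]; group
    have h11 : w * r * t * y * (w * r * t)⁻¹ = y := by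
      calc _ = w * r * (t * y * t⁻¹) * r⁻¹ * w⁻¹ := by group
        _ = w * y * (y⁻¹ * r * y) * k * r⁻¹ * w⁻¹ := by rw [hk]; group
        _ = y * (y⁻¹ * w * y) * r ^ 2 * w⁻¹ := by rw [hw]; group
        _ = y * (w⁻¹ * r ^ 2) * w⁻¹ := by rw [inv_zp' (yi w hw')]; group
        _ = _ := by rw [← h10]; group
    have h12 : w * r * t * r ^ 2 * (w * r * t)⁻¹ = r ^ 2 := by
      calc _ = w * r * (t * r ^ 2 * t⁻¹) * (w * r)⁻¹ := by group
        _ = _ := by rw [h.tz, h.zc hx]; group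
    rw [← h6] at h11 h12
    have hFi := inv_mem hF
    have := h.rank (F⁻¹ * y * F⁻¹⁻¹) ((mem_normalizer_iff.1 hFi _).1 (h.syl.le hy)) (F⁻¹ * r ^ 2 * F⁻¹⁻¹)
      ((mem_normalizer_iff.1 hFi _).1 (h.syl.le (T.pow_mem h.rT 2)))
      (by conv_rhs => rw [← h11]
          group)
      (by conv_rhs => rw [← h12]
          group)
      (by rw [conj_pow, hy2]; group) (by rw [conj_pow, h.z2]; group)
      (fun e => h.y1 h0 (conj_eq_one_iff.1 e)) (fun e => h.z1 (conj_eq_one_iff.1 e))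
      (by rw [conj_mul, conj_mul, h.zc hy])
    exact h.yz h0 (by simpa using this)
  · apply h9
    rw [← h7]
    calc _ = w * ρ * w⁻¹ := by rw [(comm_zp hw hρK).eq]; group
      _ = w * ((y * r) * ρ * (y * r)⁻¹) * w⁻¹ := by rw [yrc ρ hρK]
      _ = _ := by group

end Cfg

end Cfsg.Lib.Z4F
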