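import Cfsg.Agent.Lib.Z4F.D

/-! The case analysis, second part, and the main lemma. -/

set_option autoImplicit false
set_option linter.unusedSectionVars false
set_option linter.style.haveILetI false

namespace Cfsg.Lib.Z4F
open Subgroup Cfsg.Lib.Core Cfsg.Lib.Amalg

variable {G : Type*} [Group G] [Finite G] {A T H : Subgroup G} {t r k y a b c : G}

/-- conjugacy inside `A` -/
def Cj (A : Subgroup G) (a b : G) : Prop := ∃ g ∈ A, g * a * g⁻¹ = b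

theorem Cj.symm (h : Cj A a b) : Cj A b a := by
  obtain ⟨g, hg, rfl⟩ := h
  exact ⟨g⁻¹, inv_mem hg, by group⟩

theorem Cj.trans (h : Cj A a b) (h' : Cj A b c) : Cj A a c := by
  obtain ⟨g, hg, rfl⟩ := h
  obtain ⟨f, hf, rfl⟩ := h'
  exact ⟨f * g, mul_mem hf hg, by group⟩

theorem Cj.conj (h : Cj A a b) (ht : t ∈ 𝐍 A) : Cj A (t * a * t⁻¹) (t * b * t⁻¹) := by
  obtain ⟨g, hg, rfl⟩ := h
  exact ⟨t * g * t⁻¹, (mem_normalizer_iff.1 ht g).1 hg, by group⟩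

namespace Cfg
variable (h : Cfg A T t r k)
include h

theorem iso0 (hy : y ∈ T) (h0 : y ∉ zpowers k ⊔ zpowers r) (hy2 : y ^ 2 = 1) (hk : t * y * t⁻¹ = y * k)
    {u : G} (hu : u ∈ T) (hu2 : u ^ 2 = 1) (hu1 : u ≠ 1) (huz : ¬ Cj A u (r ^ 2)) : ¬ Cj A y (r ^ 2) := by
  intro hc
  have yi := fun w (hw : w ∈ zpowers k) => h.yinv hy h0 hy2 hk hw
  have step : ∀ w ∈ zpowers k, ∀ j : ℤ, Cj A (w * y) (k ^ (2 * j) * w * y) := fun w hw j =>
    ⟨k ^ j, h.syl.le (T.zpow_mem h.kT j), by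
      calc _ = k ^ j * w * (y * k ^ j * y⁻¹)⁻¹ * y := by group
        _ = k ^ j * (w * k ^ j) * y := by rw [yi _ (zpow_mem_zpowers k j)]; group
        _ = _ := by rw [(comm_zp hw (zpow_mem_zpowers k j)).eq]; group⟩
  have all : ∀ w ∈ zpowers k, Cj A (w * y) (r ^ 2) := by
    rintro _ ⟨i, rfl⟩
    rcases Int.even_or_odd' i with ⟨j, rfl | rfl⟩
    · have := step 1 (one_mem _) j
      rw [one_mul, mul_one] at this
      exact this.symm.trans hc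
    · have h1 := hc.conj h.tA
      rw [h.tz, hk, show y * k = (y * k * y⁻¹) * y by group, yi k (mem_zpowers k)] at h1
      have := step k⁻¹ (inv_mem (mem_zpowers k)) (j + 1)
      rw [show k ^ (2 * (j + 1)) * k⁻¹ = k ^ (2 * j + 1) by group] at this
      exact this.symm.trans h1
  obtain ⟨g, hg, h1⟩ := tt h.perf h.syl (h.idxy hy h0 hy2 hk) (h.syl.le hu) hu2
  rcases h.memy hy h0 hy2 hk h1 with e | ⟨w, hw, e⟩
  · rcases h.uniqK e (by rw [conj_pow, hu2]; group) with e' | e'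
    · exact hu1 (conj_eq_one_iff.1 e')
    · exact huz ⟨g, hg, e'⟩
  · exact huz (Cj.trans ⟨g, hg, e⟩ (all w hw))

theorem iso (hy : y ∈ T) (h0 : y ∉ zpowers k ⊔ zpowers r) (hy2 : y ^ 2 = 1)
    {u : G} (hu : u ∈ T) (hu2 : u ^ 2 = 1) (hu1 : u ≠ 1) (huz : ¬ Cj A u (r ^ 2)) : ¬ Cj A y (r ^ 2) :=
  have e := h.gen hy h0
  (h.change e).iso0 hy (e ▸ h0) hy2 (by group) hu hu2 hu1 huz

theorem caseB2 (hy : y ∈ T) (h0 : y ∉ zpowers k ⊔ zpowers r) (hy2 : y ^ 2 = 1) (hk : t * y * t⁻¹ = y * k)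
    (hw : y⁻¹ * r * y = r * r ^ 2) (hrk : Commute r k) {ρ : G} (hρ : ρ ∈ zpowers k) (hρ2 : ρ ^ 2 = r ^ 2) :
    False := by
  have yi := fun w (hw : w ∈ zpowers k) => h.yinv hy h0 hy2 hk hw
  have hk' := mem_zpowers k
  have hρi : ρ⁻¹ = ρ * r ^ 2 := by
    rw [inv_eq_iff_mul_eq_one, ← hρ2, ← mul_assoc, ← sq, hρ2, ← sq, h.z2]
  have hρT := h.KT hρ
  have hc := comm_zp' hrk hρ
  have hu : ρ * r ∈ T := T.mul_mem hρT h.rT
  have hu2 : (ρ * r) ^ 2 = 1 := by rw [hc.symm.mul_pow, hρ2, ← sq, h.z2]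
  have huK : ρ * r ∉ zpowers k := fun e => h.rK ((mul_mem_cancel_left hρ).1 e)
  have hu1 : ρ * r ≠ 1 := fun e => huK (e ▸ one_mem _)
  have huc : ∀ x ∈ T, Commute (ρ * r) x := fun x hx =>
    h.gen_comm hy h0 ((comm_zp hρ hk').mul_left hrk) (hc.symm.mul_left (Commute.refl r)) (by
      rw [Commute, SemiconjBy]
      calc _ = y * (y⁻¹ * ρ * y) * (y⁻¹ * r * y) := by group
        _ = y * (ρ * (r ^ 2) ^ 2 * r) := by rw [inv_zp' (yi ρ hρ), hw, hρi]; group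
        _ = _ := by rw [h.z2, mul_one]) hx
  have htu : t * (ρ * r) * t⁻¹ = ρ * r * r ^ 2 := by
    calc _ = (t * ρ * t⁻¹) * (t * r * t⁻¹) := by group
      _ = _ := by rw [h.invK hρ, h.tr, hρi]; group
  have ha : ¬ Cj A (ρ * r) (r ^ 2) := fun ⟨g, hg, e⟩ => huK (by
    rw [ex h.syl (fun x hx => h.zc hx) h.z2 h.z1 hg e (h.syl.le hρT) (huc ρ hρT).symm hρ2
      fun x hx => h.hsq hy h0 hy2 hk hx]
    exact h.zK)
  have ha' : ¬ Cj A (ρ * r * r ^ 2) (r ^ 2) := fun e => ha (by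
    have := e.conj h.tA
    rwa [h.tz, ← htu, conj_conj h.t2] at this)
  have isol : ∀ v ∈ T, Cj A v (r ^ 2) → v = r ^ 2 := fun v hv e => by
    have hv2 : v ^ 2 = 1 := by
      obtain ⟨g, -, rfl⟩ := e.symm
      rw [conj_pow, h.z2]; group
    have hv1 : v ≠ 1 := by
      obtain ⟨g, -, rfl⟩ := e.symm
      exact fun e' => h.z1 (conj_eq_one_iff.1 e')
    by_cases h1 : v ∈ zpowers k ⊔ zpowers r
    · rcases h.mem0.1 h1 with e' | e'
      · exact (h.uniqK e' hv2).resolve_left hv1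
      · exfalso
        rcases h.roots hρ hρ2 e' (h.root_of (comm_zp' hrk e') (by simpa using hv2)) with e'' | e''
        · apply ha; rwa [← e'', inv_mul_cancel_right]
        · apply ha'; rwa [show ρ * r * r ^ 2 = ρ * r ^ 2 * r by group, ← e'', inv_mul_cancel_right]
    · exact absurd e (h.iso hv h1 hv2 hu hu2 hu1 ha)
  have hzT := T.pow_mem h.rT 2
  have hb : ¬ Cj A (ρ * r) (ρ * r * r ^ 2) := fun ⟨g, hg, e⟩ => by
    obtain ⟨f, hf, h1, h2⟩ := ex0 h.syl (z := ρ * r * r ^ 2) (fun x hx =>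
      ((huc x hx).symm.mul_right (h.zc hx))) hg e h.syl.isPGroup h.syl.le fun s hs => (huc s hs).symm
    have h3 := isol _ (h2 _ hzT) (Cj.symm ⟨f, hf, rfl⟩)
    have h4 := odd_trick h.syl hf (mem_normalizer_of_cj_le (cj_le_iff'.2 h2)) (fun x hx => (huc x hx).symm) (by
      refine mul_inv_eq_iff_eq_mul.1 ?_
      calc _ = f * (f * (ρ * r) * f⁻¹) * f⁻¹ := by simp only [sq]; group
        _ = (f * (ρ * r) * f⁻¹) * (f * r ^ 2 * f⁻¹) := by rw [h1]; conv_rhs => rw [← h1]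
                                                          group
        _ = ρ * r * (r ^ 2) ^ 2 := by rw [h1, h3]; group
        _ = _ := by rw [h.z2, mul_one])
    rw [h4.eq, mul_inv_cancel_right, left_eq_mul] at h1
    exact h.z1 h1
  obtain ⟨g, hg, h1⟩ := tt h.perf h.syl (h.idxy hy h0 hy2 hk) (h.syl.le hu) hu2
  rcases h.memy hy h0 hy2 hk h1 with e | ⟨w, hw, e⟩
  · rcases h.uniqK e (by rw [conj_pow, hu2]; group) with e' | e'
    · exact hu1 (conj_eq_one_iff.1 e')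
    · exact ha ⟨g, hg, e'⟩
  obtain ⟨f, hf, h2, h3⟩ := ex0 h.syl (z := ρ * r) (v := w * y) (g := g⁻¹) (fun x hx => (huc x hx).symm)
    (inv_mem hg) (by rw [← e]; group) (P := zpowers (r ^ 2)) (h.syl.isPGroup.to_le (zpowers_le.2 hzT))
    (zpowers_le.2 (h.syl.le hzT)) fun s hs => (comm_zp' (h.zc (T.mul_mem (h.KT hw) hy)) hs).symm
  have h4 := isol _ (h3 _ (mem_zpowers _)) (Cj.symm ⟨f, hf, rfl⟩)
  refine hb (Cj.trans ⟨g, hg, e⟩ (Cj.trans (b := w * y * r ^ 2) ⟨ρ, h.syl.le hρT, ?_⟩ ⟨f, hf, ?_⟩))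
  · calc _ = ρ * w * y * ρ⁻¹ := by group
      _ = w * y * (y⁻¹ * ρ * y) * ρ⁻¹ := by rw [(comm_zp hρ hw).eq]; group
      _ = w * y * (ρ ^ 2)⁻¹ := by rw [inv_zp' (yi ρ hρ), sq]; group
      _ = _ := by rw [hρ2, inv_eq_iff_mul_eq_one.2 (by rw [← sq, h.z2])]
  · rw [← h2]
    conv_rhs => rw [← h4]
    group

theorem caseB0 (hy : y ∈ T) (h0 : y ∉ zpowers k ⊔ zpowers r) (hy2 : y ^ 2 = 1) (hk : t * y * t⁻¹ = y * k) :
    False := by
  obtain ⟨w, hw, e1, e2, -, e4⟩ := h.rel hy hk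
  have hk' := mem_zpowers k
  have c1 : w ^ 2 = 1 → Commute r k := fun e => by
    rw [e, mul_one] at e2
    rw [Commute, SemiconjBy]
    conv_lhs => rw [← e2]
    group
  have c2 : (w * k) ^ 2 = 1 → r * k * r⁻¹ = k⁻¹ := fun e => by
    rw [(comm_zp hw hk').mul_pow, ← eq_inv_iff_mul_eq_one] at e
    have : r⁻¹ * k * r⁻¹⁻¹ = k⁻¹ := by rw [inv_inv, e2, e, sq]; group
    simpa using inv_zp' this
  rcases e4 with e4 | e4
  · rcases h.uniqK hw e4 with rfl | rfl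
    · refine h.caseB1 hy h0 hy2 hk ?_ (c1 e4)
      rw [Commute, SemiconjBy]
      calc _ = y * (y⁻¹ * r * y) := by group
        _ = _ := by rw [e1, mul_one]
    · obtain ⟨n, hn⟩ := h.kpow
      by_cases h2 : k ^ 2 = 1
      · have h3 := (h.uniqK hk' h2).resolve_left h.k1
        have h4 : k⁻¹ = k := by rw [inv_eq_iff_mul_eq_one, ← sq, h2]
        exact h.caseB3a hy h0 hy2 hk (by rw [e1, h4, h3]) (by rw [h4, h3]; group)
      · obtain ⟨ρ, hρ, h3, h4⟩ := exists_half hn 1 h2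
        exact h.caseB2 hy h0 hy2 hk e1 (c1 e4) hρ ((h.uniqK (pow_mem hρ _) h4).resolve_left h3)
  · rcases h.uniqK (mul_mem hw hk') e4 with e | e
    · exact h.caseB3a hy h0 hy2 hk (by rw [e1, eq_inv_of_mul_eq_one_left e]) (c2 e4)
    · exact h.caseB3b hy h0 hy2 hk (by rw [e1, ← e]; group) (c2 e4)

theorem main {v : G} (hv : v ∈ T) (hv2 : v ^ 2 = 1) (hv1 : v ≠ 1) : v = r ^ 2 := by
  by_contra hvz
  by_cases hA : ∀ x ∈ T, x ^ 2 = 1 → x ∈ zpowers k ⊔ zpowers r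
  · exact h.caseA hA hv hv2 hv1 hvz
  · push Not at hA
    obtain ⟨y, hy, hy2, h0⟩ := hA
    have e := h.gen hy h0
    exact (h.change e).caseB0 hy (e ▸ h0) hy2 (by group)

end Cfg

/-- an involution `t` acting on a perfect group `A` with `C_T(t)` cyclic of order four -/
theorem mprime (hA : Group.IsPerfect A) (hT : Syl 2 T A) (t2 : t ^ 2 = 1) (tA : t ∈ 𝐍 A) (tT : t ∈ 𝐍 T)
    (tnA : t ∉ A) (rT : r ∈ T) (r4 : orderOf r = 4) (tr : t * r * t⁻¹ = r)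
    (cen : ∀ x ∈ T, t * x * t⁻¹ = x → x ∈ zpowers r)
    (rank : ∀ a ∈ A, ∀ b ∈ A, t * a * t⁻¹ = a → t * b * t⁻¹ = b → a ^ 2 = 1 → b ^ 2 = 1 → a ≠ 1 → b ≠ 1 →
      a * b = b * a → a = b) {v : G} (hv : v ∈ T) (hv2 : v ^ 2 = 1) (hv1 : v ≠ 1) : v = r ^ 2 := by
  have hC : T ⊓ centralizer {t} = zpowers r := le_antisymm
    (fun x hx => cen x hx.1 (mul_inv_eq_iff_eq_mul.2 (mem_centralizer_singleton_iff.1 hx.2).symm))
    (zpowers_le.2 ⟨rT, mem_centralizer_singleton_iff.2 (mul_inv_eq_iff_eq_mul.1 tr).symm⟩)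
  have h4 : Nat.card ↥(T ⊓ centralizer {t}) = 4 := by rw [hC, Nat.card_zpowers, r4]
  obtain ⟨k, hk, h1, h2, h3, h5⟩ := kstruct hT.isPGroup t2 tT
    (h4 ▸ four_le_idx hT.isPGroup t2 tT (fun e => tnA (hT.le e)) rT r4 tr) fun a ha b hb e1 e2 e3 e4 =>
      ((inv_of_four r4 (cen a ha e1) (Invol.sq_of_two e3)).resolve_left (Invol.ne_one_of_two e3)).trans
        ((inv_of_four r4 (cen b hb e2) (Invol.sq_of_two e4)).resolve_left (Invol.ne_one_of_two e4)).symm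
  by_cases k1 : k = 1
  · subst k1
    have := h5 v hv
    rw [zpowers_one_eq_bot, mem_bot, inv_mul_eq_one] at this
    exact (inv_of_four r4 (cen v hv this.symm) hv2).resolve_left hv1
  · exact Cfg.main ⟨hA, hT, t2, tA, tT, tnA, rT, r4, tr, cen, rank, hk, k1, h1, h2.trans h4, h3, h5⟩ hv hv2 hv1

end Cfsg.Lib.Z4F
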