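import Cfsg.Agent.Lib.Z4F.E

/-! Rank lemmas, an involution with cyclic centralizer of order four, four-groups. -/

set_option autoImplicit false
set_option linter.unusedSectionVars false
set_option linter.style.haveILetI false

namespace Cfsg.Lib.Z4F
open Subgroup Cfsg.Lib.Core Cfsg.Lib.Amalg

variable {G : Type*} [Group G] [Finite G] {A T H R U S Γ : Subgroup G} {t r k y z : G}

theorem card_le_two (h2 : z ^ 2 = 1) (h : ∀ v ∈ H, v ≠ 1 → v = z) : Nat.card H ≤ 2 := by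
  have : H ≤ zpowers z := fun v hv => by
    by_cases e : v = 1
    · exact e ▸ one_mem _
    · exact h v hv e ▸ mem_zpowers v
  exact (card_le_of_le this).trans (by rw [Nat.card_zpowers]; exact orderOf_le_of_pow_eq_one two_pos h2)

theorem rank_of_uniq (hT : Syl 2 T A) (h2 : z ^ 2 = 1) (h : ∀ v ∈ T, v ^ 2 = 1 → v ≠ 1 → v = z) :
    PRankLE 2 1 A := by
  intro B _ hB
  have h1 : ∀ x ∈ B.map A.subtype, x ^ 2 = 1 := by
    rintro _ ⟨x, hx, rfl⟩; exact congrArg Subtype.val (hB x hx)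
  obtain ⟨g, -, e⟩ := hT.exists_conj_le (P := B.map A.subtype)
    (isPGroup_iff_mem.2 fun x hx => ⟨1, h1 x hx⟩) (map_subtype_le B)
  have := card_le_two (H := cj g (B.map A.subtype)) h2 fun v hv => h v (e hv) (by
    obtain ⟨x, hx, rfl⟩ := mem_cj'.1 hv
    rw [conj_pow, h1 x hx]; group)
  rwa [card_cj, card_map_of_injective A.subtype_injective] at this

theorem not_rank0 (hz : z ∈ A) (h2 : z ^ 2 = 1) (h1 : z ≠ 1) : ¬ PRankLE 2 0 A := fun h => by
  have := h (zpowers ⟨z, hz⟩) inferInstance (by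
    rintro _ ⟨i, rfl⟩
    simp only
    rw [← zpow_natCast, ← zpow_mul, mul_comm, zpow_mul, zpow_natCast, show (⟨z, hz⟩ : A) ^ 2 = 1 from Subtype.ext h2,
      one_zpow])
  rw [Nat.card_zpowers, ← orderOf_coe, Invol.two_of_sq h2 h1] at this
  omega

theorem exists_of_not_rank0 (h : ¬ PRankLE 2 0 A) : ∃ z ∈ A, z ^ 2 = 1 ∧ z ≠ 1 := by
  by_contra hc
  push Not at hc
  refine h fun B _ hB => ?_
  have : B = ⊥ := eq_bot_iff.2 fun x hx => Subtype.ext (hc x x.2 (congrArg Subtype.val (hB x hx)))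
  rw [this, card_bot]; rfl

theorem uniq_of_rank (h : PRankLE 2 1 A) {a b : G} (ha : a ∈ A) (hb : b ∈ A) (ha2 : a ^ 2 = 1) (hb2 : b ^ 2 = 1)
    (ha1 : a ≠ 1) (hb1 : b ≠ 1) (hc : a * b = b * a) : a = b := by
  classical
  let a' : A := ⟨a, ha⟩
  let b' : A := ⟨b, hb⟩
  have hc' : Commute a' b' := Subtype.ext hc
  have hcomm : ∀ x ∈ ({a', b'} : Set A), ∀ y ∈ ({a', b'} : Set A), x * y = y * x := by
    rintro x (rfl | rfl) y (rfl | rfl)
    exacts [rfl, hc', hc'.symm, rfl]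
  have h1 := h (closure {a', b'}) (isMulCommutative_closure hcomm) (fun x hx => by
    induction hx using closure_induction with
    | mem x hx => rcases hx with rfl | rfl; exacts [Subtype.ext ha2, Subtype.ext hb2]
    | one => simp
    | mul x y hx hy h1 h2 =>
      haveI := isMulCommutative_closure hcomm
      rw [(show Commute x y from setLike_mul_comm hx hy).mul_pow, h1, h2, one_mul]
    | inv x _ h1 => rw [inv_pow, h1, inv_one])
  by_contra hne
  have h3 : ({1, a', b'} : Set A).ncard = 3 := Set.ncard_eq_three.2 ⟨1, a', b',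
    fun e => ha1 (congrArg Subtype.val e).symm, fun e => hb1 (congrArg Subtype.val e).symm,
    fun e => hne (congrArg Subtype.val e), rfl⟩
  have h4 : ({1, a', b'} : Set A) ⊆ (closure {a', b'} : Subgroup A) := by
    rintro x (rfl | rfl | rfl)
    exacts [one_mem _, subset_closure (Or.inl rfl), subset_closure (Or.inr rfl)]
  have := Set.ncard_le_ncard h4
  rw [h3, ← Nat.card_coe_set_eq] at this
  exact absurd (this.trans h1) (by norm_num)

theorem exists_central (hS : IsPGroup 2 S) (hTS : T ≤ S) (hn : S ≤ 𝐍 T) (h1 : T ≠ ⊥) :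
    ∃ z ∈ T, z ^ 2 = 1 ∧ z ≠ 1 ∧ ∀ x ∈ S, x * z = z * x := by
  obtain ⟨⟨c, hc⟩, hc1⟩ := ne_bot_iff_exists_ne_one.1 (inf_center_ne_bot hS hTS hn h1)
  obtain ⟨n, hn⟩ := isPGroup_iff_mem.1 hS c (hTS hc.1)
  obtain ⟨w, hw, h2, h3⟩ := exists_half hn 0 (by simpa using hc1)
  simp only [pow_zero, pow_one] at h2 h3
  have := zpowers_le.2 hc hw
  exact ⟨w, this.1, h3, h2, this.2⟩

theorem final14 (hA : Group.IsPerfect A) (ht : orderOf t = 2) (tA : t ∈ 𝐍 A)
    (hC : ∀ R : Sylow 2 ↥(A ⊓ centralizer {t}), IsCyclic R ∧ Nat.card R = 4) :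
    PRankLE 2 1 A ∧ ¬ PRankLE 2 0 A := by
  have t2 := Invol.sq_of_two ht
  obtain ⟨R, hR⟩ := exists_syl 2 (A ⊓ centralizer {t})
  obtain ⟨h1, h2⟩ := hC hR.toSylow
  rw [hR.coe_toSylow] at h1 h2
  rw [card_subgroupOf_of_le hR.le] at h2
  have h3 : IsCyclic R := (subgroupOfEquivOfLe hR.le).isCyclic.1 h1
  obtain ⟨r, rfl⟩ := PGrp.exists_zpowers_eq_of_isCyclic h3
  rw [Nat.card_zpowers] at h2
  have hr := hR.le (mem_zpowers r)
  have hrt : Commute r t := mem_centralizer_singleton_iff.1 hr.2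
  have tr : t * r * t⁻¹ = r := mul_inv_eq_iff_eq_mul.2 hrt.symm
  have hC' : ∀ x ∈ A, t * x * t⁻¹ = x → x ∈ A ⊓ centralizer {t} := fun x hx e =>
    ⟨hx, mem_centralizer_singleton_iff.2 (mul_inv_eq_iff_eq_mul.1 e).symm⟩
  refine ⟨?_, not_rank0 (A.pow_mem hr.1 2) (sq_sq_of_four h2) (sq_ne_of_four h2)⟩
  have htr : t ∈ 𝐍 (zpowers r) := centralizer_le_normalizer _ fun w hw => (comm_zp' hrt.symm hw).symm
  obtain ⟨S, hS, hle⟩ := exists_syl_ge (pg_S hR.isPGroup t2 htr) (sup_le_sup_right (hR.le.trans inf_le_left) (zpowers t))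
  have hLA : A ⊔ zpowers t ≤ 𝐍 A := sup_le le_normalizer (zpowers_le.2 tA)
  have hT := hS.inf_normal le_sup_left hLA
  have htS : t ∈ S := hle (mem_sup_right (mem_zpowers t))
  have rT : r ∈ S ⊓ A := ⟨hle (mem_sup_left (mem_zpowers r)), hr.1⟩
  have cen : ∀ x ∈ S ⊓ A, t * x * t⁻¹ = x → x ∈ zpowers r := fun x hx e =>
    hR.le_of_le (U := S ⊓ (A ⊓ centralizer {t})) (zpowers_le.2 ⟨rT.1, hr⟩) inf_le_right hS.isPGroup.to_inf_left
      ⟨hx.1, hC' x hx.2 e⟩
  refine rank_of_uniq hT (sq_sq_of_four h2) fun v hv hv2 hv1 => ?_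
  by_cases tnA : t ∈ A
  · obtain ⟨z, hz, z2, z1, zc⟩ := exists_central hT.isPGroup le_rfl le_normalizer fun e =>
      hv1 (mem_bot.1 (e ▸ hv))
    have e1 := (inv_of_four h2 (cen z hz (mul_inv_eq_iff_eq_mul.2 (zc t ⟨htS, tnA⟩))) z2).resolve_left z1
    have e2 := (inv_of_four h2 (cen t ⟨htS, tnA⟩ (by group)) t2).resolve_left (Invol.ne_one_of_two ht)
    exact (inv_of_four h2 (cen v hv (mul_inv_eq_iff_eq_mul.2 (by rw [e2, ← e1, zc v hv]))) hv2).resolve_left hv1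
  refine mprime hA hT t2 tA (le_normalizer_inf le_normalizer (hS.le.trans hLA) htS) tnA rT h2 tr cen
    (fun a ha b hb e1 e2 a2 b2 a1 b1 hc => ?_) hv hv2 hv1
  have hab : b ∈ 𝐍 (zpowers a) := centralizer_le_normalizer _ fun w hw => (comm_zp' (show Commute b a from hc.symm) hw).symm
  obtain ⟨g, -, e⟩ := hR.exists_conj_le (pg_S (isPGroup_zpowers_of_pow (k := 1) a2) b2 hab)
    (sup_le (zpowers_le.2 (hC' a ha e1)) (zpowers_le.2 (hC' b hb e2)))
  have e3 := (inv_of_four h2 (e (conj_mem_cj g (mem_sup_left (mem_zpowers a))))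
    (by rw [conj_pow, a2]; group)).resolve_left fun e => a1 (conj_eq_one_iff.1 e)
  have e4 := (inv_of_four h2 (e (conj_mem_cj g (mem_sup_right (mem_zpowers b))))
    (by rw [conj_pow, b2]; group)).resolve_left fun e => b1 (conj_eq_one_iff.1 e)
  simpa using e3.trans e4.symm

theorem key8 (hR : IsPGroup 2 R) (z2 : z ^ 2 = 1) (hu : ∀ s ∈ R, s ^ 2 = 1 → s ≠ 1 → s = z) {v g : G} (hg : g ∈ R)
    (hv : v * g * v⁻¹ = g⁻¹) (h1 : 8 ≤ Nat.card ↥(R ⊓ centralizer {v}))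
    (h2 : 8 ≤ Nat.card ↥(R ⊓ centralizer {g * v})) : g ^ 2 = 1 := by
  obtain ⟨a, ha, hi, hinv⟩ : ∃ a ∈ R, (zpowers a).relIndex R ≤ 2 ∧ ∀ x ∈ R, x ∉ zpowers a → x * a * x⁻¹ = a⁻¹ := by
    rcases Block.isCyclic_or_quatData' hR (fun s hs t ht e1 e2 =>
      (hu s hs (Invol.sq_of_two e1) (Invol.ne_one_of_two e1)).trans
        (hu t ht (Invol.sq_of_two e2) (Invol.ne_one_of_two e2)).symm) with h | ⟨a, x, n, h⟩
    · obtain ⟨a, rfl⟩ := PGrp.exists_zpowers_eq_of_isCyclic h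
      exact ⟨a, mem_zpowers a, by rw [relIndex_self]; omega, fun x hx hx' => absurd hx hx'⟩
    · refine ⟨a, h.a_mem, ?_, fun y hy hy' => ?_⟩
      · have := card_mul_relIndex h.zpowers_le
        rw [Nat.card_zpowers, h.ord, h.card_eq (by positivity), show 4 * 2 ^ (n + 1) = 2 * 2 ^ (n + 1) * 2 by ring] at this
        exact (Nat.eq_of_mul_eq_mul_left (by positivity) this).le
      · obtain ⟨i, rfl | rfl⟩ := (h.mem y).1 hy
        · exact absurd (zpow_mem_zpowers a i) hy'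
        · simpa using h.refl_conj i 1
  have key : ∀ w : G, 8 ≤ Nat.card ↥(R ⊓ centralizer {w}) → ∃ ρ ∈ zpowers a, orderOf ρ = 4 ∧ Commute ρ w := by
    intro w hw
    have h3 := card_inf_mul_relIndex (zpowers a) (R ⊓ centralizer {w})
    have h4 : (zpowers a).relIndex (R ⊓ centralizer {w}) ≤ 2 :=
      (relIndex_le_of_le_right inf_le_left index_ne_zero_of_finite).trans hi
    have h5 : ¬ Nat.card ↥(zpowers a ⊓ (R ⊓ centralizer {w})) ≤ 2 := fun e => by
      have := Nat.mul_le_mul e h4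
      omega
    obtain ⟨d, hd, hd2⟩ : ∃ d ∈ zpowers a ⊓ (R ⊓ centralizer {w}), d ^ 2 ≠ 1 := by
      by_contra hc
      push Not at hc
      exact h5 (card_le_two z2 fun s hs => hu s hs.2.1 (hc s hs))
    obtain ⟨n, hn⟩ := isPGroup_iff_mem.1 hR d hd.2.1
    obtain ⟨ρ, hρ, h6, h7⟩ := exists_half hn 1 hd2
    have := zpowers_le.2 hd hρ
    exact ⟨ρ, this.1, orderOf_eq_prime_pow (p := 2) (n := 1) h6 (by rw [pow_succ, pow_mul]; exact h7),
      mem_centralizer_singleton_iff.1 this.2.2⟩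
  obtain ⟨ρ, hρ, o1, c1⟩ := key v h1
  obtain ⟨σ, hσ, o2, c2⟩ := key _ h2
  have c3 : Commute (g * v) ρ := comm_zp' c2.symm (PGrp.mem_zpowers_of_pow_eq_one (C := zpowers a) inferInstance hρ hσ
    (by rw [o2, ← o1, pow_orderOf_eq_one]))
  have c4 : Commute g ρ := by simpa using c3.mul_left c1.symm.inv_left
  have hga : g ∈ zpowers a := by
    by_contra hc
    have := inv_zp (hinv g hg hc) hρ
    rw [c4.eq, mul_inv_cancel_right, eq_inv_iff_mul_eq_one, ← sq] at this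
    exact sq_ne_of_four o1 this
  by_contra hg2
  obtain ⟨n, hn⟩ := isPGroup_iff_mem.1 hR g hg
  obtain ⟨τ, hτ, h6, h7⟩ := exists_half hn 1 hg2
  have c5 : Commute v τ := comm_zp' c1.symm (PGrp.mem_zpowers_of_pow_eq_one (C := zpowers a) inferInstance
    (zpowers_le.2 hga hτ) hρ (by rw [o1, show 4 = 2 ^ 1 * 2 from rfl, pow_mul, h7]))
  have := inv_zp hv hτ
  rw [c5.eq, mul_inv_cancel_right, eq_inv_iff_mul_eq_one, ← sq] at this
  exact h6 this

end Cfsg.Lib.Z4F
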