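import Cfsg.Agent.Lib.Z4F.F

/-! A four-group acting on a perfect group. -/

set_option autoImplicit false
set_option linter.unusedSectionVars false
set_option linter.style.haveILetI false

namespace Cfsg.Lib.Z4F
open Subgroup Cfsg.Lib.Core Cfsg.Lib.Amalg

variable {G : Type*} [Group G] [Finite G] {A T H R U S Γ : Subgroup G} {p q y z : G}

structure Four (A U S Γ : Subgroup G) (y z : G) : Prop where
  perf : Group.IsPerfect A
  syl : Syl 2 S (A ⊔ U)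
  US : U ≤ S
  UA : U ≤ 𝐍 A
  u2 : ∀ u ∈ U, u ^ 2 = 1
  uc : ∀ u ∈ U, ∀ v ∈ U, Commute u v
  UΓ : U ≤ 𝐍 Γ
  hΓ : ∀ v ∈ U, v ≠ 1 → ∀ x ∈ A, v * x * v⁻¹ = x → x ∈ Γ
  uniq : ∀ a ∈ Γ, ∀ b ∈ Γ, a ^ 2 = 1 → b ^ 2 = 1 → a ≠ 1 → b ≠ 1 → a * b = b * a → a = b
  zT : z ∈ S ⊓ A
  zΓ : z ∈ Γ
  z2 : z ^ 2 = 1
  z1 : z ≠ 1
  zc : ∀ x ∈ S, x * z = z * x
  yT : y ∈ S ⊓ A
  y2 : y ^ 2 = 1
  y1 : y ≠ 1
  yz : y ≠ z

namespace Four
variable (h : Four A U S Γ y z)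
include h

theorem LA : A ⊔ U ≤ 𝐍 A := sup_le le_normalizer h.UA
theorem sylT : Syl 2 (S ⊓ A) A := h.syl.inf_normal le_sup_left h.LA
theorem ST : S ≤ 𝐍 (S ⊓ A) := le_normalizer_inf le_normalizer (h.syl.le.trans h.LA)

theorem eq_z {x : G} (hx : x ∈ S) (hΓ : x ∈ Γ) (h2 : x ^ 2 = 1) (h1 : x ≠ 1) : x = z :=
  h.uniq x hΓ z h.zΓ h2 h.z2 h1 h.z1 (h.zc x hx)

theorem yΓ : y ∉ Γ := fun e => h.yz (h.eq_z h.yT.1 e h.y2 h.y1)

theorem nA {v : G} (hv : v ∈ U) (hA : v ∈ A) : v = 1 := by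
  by_contra h1
  have := h.eq_z (h.US hv) (h.hΓ v hv h1 v hA (by group)) (h.u2 v hv) h1
  exact h.yΓ (h.hΓ v hv h1 y h.yT.2 (by rw [this, ← h.zc y h.yT.1]; group))

theorem cenΓ {v x : G} (hv : v ∈ U) (h1 : v ≠ 1) (hx : x ∈ S ⊓ A ⊓ centralizer {v}) : x ∈ Γ :=
  h.hΓ v hv h1 x hx.1.2 (mul_inv_eq_iff_eq_mul.2 (mem_centralizer_singleton_iff.1 hx.2).symm)

theorem not4 (hp : p ∈ U) (p1 : p ≠ 1) : Nat.card ↥(S ⊓ A ⊓ centralizer {p}) ≠ 4 := by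
  intro h4
  haveI := IsPGroup.isMulCommutative_of_card_eq_prime_sq (G := ↥(S ⊓ A ⊓ centralizer {p})) (p := 2) h4
  obtain ⟨r, hr⟩ := Block.exists_zpowers_eq_of_unique_involution (A := S ⊓ A ⊓ centralizer {p})
    h.sylT.isPGroup.to_inf_left (fun s hs t ht => setLike_mul_comm hs ht) fun s hs t ht e1 e2 =>
      (h.eq_z hs.1.1 (h.cenΓ hp p1 hs) (Invol.sq_of_two e1) (Invol.ne_one_of_two e1)).trans
        (h.eq_z ht.1.1 (h.cenΓ hp p1 ht) (Invol.sq_of_two e2) (Invol.ne_one_of_two e2)).symm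
  have h1 := hr.le (mem_zpowers r)
  rw [← hr, Nat.card_zpowers] at h4
  have key := fun v => mprime (v := v) h.perf h.sylT (h.u2 p hp) (h.UA hp) (h.ST (h.US hp)) (fun e => p1 (h.nA hp e)) h1.1 h4
    (mul_inv_eq_iff_eq_mul.2 (mem_centralizer_singleton_iff.1 h1.2).symm)
    (fun x hx e => hr.ge ⟨hx, mem_centralizer_singleton_iff.2 (mul_inv_eq_iff_eq_mul.1 e).symm⟩)
    fun a ha b hb e1 e2 => h.uniq a (h.hΓ p hp p1 a ha e1) b (h.hΓ p hp p1 b hb e2)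
  exact h.yz ((key y h.yT h.y2 h.y1).trans (key z h.zT h.z2 h.z1).symm)

theorem pair8 (hp : p ∈ U) (p1 : p ≠ 1) (hq : q ∈ U) (q1 : q ≠ 1) (pq : p * q ≠ 1)
    (h1 : 8 ≤ Nat.card ↥(S ⊓ A ⊓ centralizer {p})) (h2 : 8 ≤ Nat.card ↥(S ⊓ A ⊓ centralizer {q})) : False := by
  set R := S ⊓ A ⊓ Γ with hR
  have hUR : U ≤ 𝐍 R := le_normalizer_inf (h.US.trans h.ST) h.UΓ
  have hPA : ∀ x ∈ R ⊔ U, x ∈ A → x ∈ R := fun x hx hA => by
    obtain ⟨a, ha, u, hu, rfl⟩ := (mem_sup_of_le_normalizer_left hUR).1 hx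
    have ha' : a ∈ A := ha.1.2
    rw [h.nA hu ((mul_mem_cancel_left ha').1 hA), mul_one]; exact ha
  have hPS : R ⊔ U ≤ S := sup_le (inf_le_left.trans inf_le_left) h.US
  obtain ⟨s, hs, hsP⟩ := SetLike.exists_of_lt (lt_inf_normalizer_of_lt h.syl.isPGroup (lt_of_le_of_ne hPS fun e =>
    h.yΓ (hPA y (e.ge h.yT.1) h.yT.2).2))
  obtain ⟨a, ha, u, hu, rfl⟩ := (mem_sup_of_le_normalizer_left h.UA).1 (h.syl.le hs.1)
  have haS : a ∈ S := (mul_mem_cancel_right (h.US hu)).1 hs.1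
  have haN : a ∈ 𝐍 (R ⊔ U) := (mul_mem_cancel_right (le_normalizer (mem_sup_right hu))).1 hs.2
  have haΓ : a ∉ Γ := fun e => hsP (mul_mem_sup ⟨⟨haS, ha⟩, e⟩ hu)
  have haR : ∀ x ∈ R, a * x * a⁻¹ ∈ R := fun x hx => hPA _ ((mem_normalizer_iff.1 haN x).1 (mem_sup_left hx))
    (mul_mem (mul_mem ha hx.1.2) (inv_mem ha))
  have key : ∀ v ∈ U, v ≠ 1 → 8 ≤ Nat.card ↥(S ⊓ A ⊓ centralizer {v}) → a * v * a⁻¹ = z * v := fun v hv v1 h8 => by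
    have h3 : a * v * a⁻¹ * v⁻¹ ∈ R := hPA _ (mul_mem ((mem_normalizer_iff.1 haN v).1 (mem_sup_right hv))
      (mem_sup_right (inv_mem hv))) (by
        simpa [mul_assoc] using mul_mem ha ((mem_normalizer_iff.1 (h.UA hv) _).1 (inv_mem ha)))
    have h4 : 8 ≤ Nat.card ↥(R ⊓ centralizer {v}) :=
      h8.trans (card_le_of_le fun x hx => ⟨⟨hx.1, h.cenΓ hv v1 hx⟩, hx.2⟩)
    have h5 := key8 (h.sylT.isPGroup.to_inf_left) h.z2 (fun s hs => h.eq_z hs.1.1 hs.2) h3 (v := v) (by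
      calc _ = v * a * v * a⁻¹ * (v ^ 2)⁻¹ := by simp only [sq]; group
        _ = v * a * (v ^ 2 * v⁻¹) * a⁻¹ := by rw [h.u2 v hv, one_mul, inv_eq_of_mul_eq_one_right (by rw [← sq, h.u2 v hv] : v * v = 1)]; group
        _ = _ := by rw [h.u2 v hv]; group) h4 (by
      rw [← card_cj a] at h4
      refine h4.trans (card_le_of_le (cj_le_iff'.2 fun x hx => ⟨haR x hx.1, mem_centralizer_singleton_iff.2 ?_⟩))
      simpa [mul_assoc] using ((show Commute x v from mem_centralizer_singleton_iff.1 hx.2).map (MulAut.conj a)).eq)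
    rw [← h.eq_z h3.1.1 h3.2 h5 fun e => haΓ (h.hΓ v hv v1 a ha ?_)]
    · group
    · calc _ = (a * v * a⁻¹ * v⁻¹)⁻¹ * a := by group
        _ = _ := by rw [e]; group
  refine haΓ (h.hΓ _ (mul_mem hp hq) pq a ha ?_)
  have : a * (p * q) * a⁻¹ = p * q := by
    calc _ = (a * p * a⁻¹) * (a * q * a⁻¹) := by group
      _ = z * (p * z) * q := by rw [key p hp p1 h1, key q hq q1 h2]; group
      _ = z ^ 2 * (p * q) := by rw [h.zc p (h.US hp), sq]; group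
      _ = _ := by rw [h.z2, one_mul]
  rw [← mul_inv_eq_iff_eq_mul.1 this]
  group

theorem half (hp : p ∈ U) (p1 : p ≠ 1) (h1 : Nat.card ↥(S ⊓ A ⊓ centralizer {p}) = 2) :
    ∃ k ∈ S ⊓ A, p * k * p⁻¹ = k⁻¹ ∧ (zpowers k).relIndex (S ⊓ A) = 2 ∧ y ∉ zpowers k ∧ z ∈ zpowers k ∧
      (∀ w ∈ zpowers k, w ^ 2 = 1 → w = 1 ∨ w = z) ∧ zpowers (y⁻¹ * (p * y * p⁻¹)) = zpowers k := by
  have hc : ∀ x ∈ S ⊓ A, p * x * p⁻¹ = x → x ^ 2 = 1 → x ≠ 1 → x = z := fun x hx e =>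
    h.eq_z hx.1 (h.hΓ p hp p1 x hx.2 e)
  have h2 : 2 ≤ Nat.card ↥(S ⊓ A) := h1 ▸ card_le_of_le inf_le_left
  obtain ⟨k, hk, e1, e2, -, e4⟩ := kstruct h.sylT.isPGroup (h.u2 p hp) (h.ST (h.US hp)) (h1 ▸ Nat.le_of_dvd
    (Nat.pos_of_ne_zero index_ne_zero_of_finite) (two_dvd_idx h.sylT.isPGroup (h.u2 p hp) (h.ST (h.US hp))
      (fun e => p1 (h.nA hp e.2)) h2)) fun a ha b hb e1 e2 e3 e4 =>
      (hc a ha e1 (Invol.sq_of_two e3) (Invol.ne_one_of_two e3)).trans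
        (hc b hb e2 (Invol.sq_of_two e4) (Invol.ne_one_of_two e4)).symm
  rw [h1] at e2
  have hu : ∀ w ∈ zpowers k, w ^ 2 = 1 → w = 1 ∨ w = z := fun w hw w2 => or_iff_not_imp_left.2
    (hc w (zpowers_le.2 hk hw) (by rw [inv_zp e1 hw, inv_eq_iff_mul_eq_one, ← sq, w2]) w2)
  have hy : y ∉ zpowers k := fun e => (hu y e h.y2).elim h.y1 h.yz
  have hz : z ∈ zpowers k := by
    by_contra e
    rcases hu _ (mul_mem_of_idx e2 h.yT h.zT hy e) (by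
      rw [(show Commute y z from h.zc y h.yT.1).mul_pow, h.y2, h.z2, one_mul]) with e' | e'
    · exact h.yz (by rw [eq_inv_of_mul_eq_one_left e', inv_eq_iff_mul_eq_one, ← sq, h.z2])
    · exact h.y1 (by simpa using e')
  refine ⟨k, hk, e1, e2, hy, hz, hu, ?_⟩
  obtain ⟨i, hi⟩ := e4 y h.yT
  obtain ⟨n, hn⟩ := isPGroup_iff_mem.1 h.sylT.isPGroup k hk
  simp only at hi
  rcases Int.even_or_odd' i with ⟨j, rfl | rfl⟩
  · exfalso
    have h3 : p * (y * k ^ j) * p⁻¹ = y * k ^ j := by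
      calc _ = y * (y⁻¹ * (p * y * p⁻¹)) * (p * k ^ j * p⁻¹) := by group
        _ = _ := by rw [← hi, inv_zp e1 (zpow_mem_zpowers k j)]; group
    have h4 : y * k ^ j ∈ S ⊓ A ⊓ centralizer {p} := ⟨mul_mem h.yT (zpow_mem hk j),
      mem_centralizer_singleton_iff.2 (mul_inv_eq_iff_eq_mul.1 h3).symm⟩
    have h5 : (y * k ^ j) ^ 2 = 1 := by
      rw [← h1]; exact congrArg Subtype.val (pow_card_eq_one' (x := (⟨_, h4⟩ : ↥(S ⊓ A ⊓ centralizer {p}))))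
    apply hy
    rw [← mul_mem_cancel_right (zpow_mem_zpowers k j)]
    by_cases e : y * k ^ j = 1
    · rw [e]; exact one_mem _
    · rw [hc _ h4.1 h3 h5 e]; exact hz
  · rw [← hi]; exact zpowers_odd hn (odd_two_mul_add_one j)

theorem pair2 (hp : p ∈ U) (p1 : p ≠ 1) (hq : q ∈ U) (q1 : q ≠ 1) (pq : p * q ≠ 1)
    (h1 : Nat.card ↥(S ⊓ A ⊓ centralizer {p}) = 2) (h2 : Nat.card ↥(S ⊓ A ⊓ centralizer {q}) = 2) : False := by
  obtain ⟨k, hk, pk, ik, hy, hz, hu, hκ⟩ := h.half hp p1 h1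
  obtain ⟨k', hk', qk, ik', -, hz', -, hκ'⟩ := h.half hq q1 h2
  have hyi : y⁻¹ = y := by rw [inv_eq_iff_mul_eq_one, ← sq, h.y2]
  generalize e1 : y⁻¹ * (p * y * p⁻¹) = κ at hκ
  generalize e2 : y⁻¹ * (q * y * q⁻¹) = κ' at hκ'
  replace e1 : p * y * p⁻¹ = y * κ := by rw [← e1]; group
  replace e2 : q * y * q⁻¹ = y * κ' := by rw [← e2]; group
  have yi : ∀ w ∈ zpowers k, y * w * y⁻¹ = w⁻¹ := fun w hw => inv_zp (by
    have : (y * κ) ^ 2 = 1 := by rw [← e1, conj_pow, h.y2]; group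
    calc _ = (y * κ) ^ 2 * κ⁻¹ * (y ^ 2)⁻¹ := by simp only [sq]; group
      _ = _ := by rw [this, h.y2]; group) (hκ.ge hw)
  have out : ∀ x ∈ S ⊓ A, x ∉ zpowers k → x ^ 2 = 1 := fun x hx hx' => by
    have := sq_mul_inv (yi _ (mul_mem_of_idx ik hx (inv_mem h.yT) hx' (by simpa using hy)))
    rwa [inv_mul_cancel_right, h.y2] at this
  have two : ∀ a w : G, a ^ 2 = 1 → w ∈ zpowers a → w ≠ 1 → w = a := by
    rintro a _ a2 ⟨i, rfl⟩ h1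
    rcases Int.even_or_odd' i with ⟨j, rfl | rfl⟩
    · exact absurd (by simp only; rw [zpow_mul, zpow_ofNat, a2, one_zpow]) h1
    · simp only; rw [zpow_add, zpow_mul, zpow_ofNat, a2, one_zpow, one_mul, zpow_one]
  have hkk : zpowers k' ≤ zpowers k := zpowers_le.2 (by
    by_contra e
    exact e (two k' z (out k' hk' e) hz' h.z1 ▸ hz))
  have hkk' : zpowers k' = zpowers k := by
    have := relIndex_mul_relIndex _ _ _ hkk (zpowers_le.2 hk)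
    rw [ik, ik'] at this
    exact le_antisymm hkk (relIndex_eq_one.1 (by omega))
  rw [hkk'] at hκ'
  have hκK := hκ.le (mem_zpowers κ)
  have hκK' := hκ'.le (mem_zpowers κ')
  have cen : ∀ w ∈ zpowers k, p * q * w * (p * q)⁻¹ = w := fun w hw => by
    calc _ = p * (q * w * q⁻¹) * p⁻¹ := by group
      _ = (p * w * p⁻¹)⁻¹ := by rw [inv_zp qk (hkk'.ge hw)]; group
      _ = _ := by rw [inv_zp pk hw, inv_inv]
  have e3 : p * q * y * (p * q)⁻¹ = y * (κ * κ'⁻¹) := by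
    calc _ = p * (q * y * q⁻¹) * p⁻¹ := by group
      _ = (p * y * p⁻¹) * (p * κ' * p⁻¹) := by rw [e2]; group
      _ = _ := by rw [e1, inv_zp pk hκK', mul_assoc]
  have hδ := mul_mem hκK (inv_mem hκK')
  have hv := mul_mem hp hq
  have e4 : (κ * κ'⁻¹) ^ 2 = 1 := by
    have := conj_conj (h.u2 _ hv) y
    rw [e3, ← conj_mul, e3, cen _ hδ, mul_assoc, mul_eq_left] at this
    rwa [sq]
  rcases hu _ hδ e4 with e5 | e5
  · exact h.yΓ (h.hΓ _ hv pq y h.yT.2 (by rw [e3, e5, mul_one]))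
  by_cases k2 : k ^ 2 = 1
  · have n1 : ∀ a : G, zpowers a = zpowers k → a = k := fun a e => two k a k2 (e.le (mem_zpowers a)) fun e' =>
      h.z1 (by rw [← e, e', zpowers_one_eq_bot] at hz; exact mem_bot.1 hz)
    rw [n1 κ hκ, n1 κ' hκ', mul_inv_cancel] at e5
    exact h.z1 e5.symm
  obtain ⟨n, hn⟩ := isPGroup_iff_mem.1 h.sylT.isPGroup k hk
  obtain ⟨ρ, hρ, h3, h4⟩ := exists_half hn 1 k2
  have hρ2 : ρ ^ 2 = z := (hu _ (pow_mem hρ _) h4).resolve_left h3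
  have c1 : ∀ w ∈ zpowers k, Commute (p * q * ρ) w := fun w hw =>
    Commute.mul_left (mul_inv_eq_iff_eq_mul.1 (cen w hw)) (comm_zp hρ hw)
  have c2 : Commute (p * q * ρ) y := mul_inv_eq_iff_eq_mul.1 (by
    calc _ = p * q * (y * (y⁻¹ * ρ * y) * ρ⁻¹) * (p * q)⁻¹ := by group
      _ = (p * q * y * (p * q)⁻¹) * (p * q * ρ ^ 2 * (p * q)⁻¹)⁻¹ := by rw [inv_zp' (yi ρ hρ), sq]; group
      _ = _ := by rw [e3, e5, hρ2, cen z hz]; group)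
  refine ctrick h.perf h.sylT (c := p * q * ρ) (mul_mem (h.UA hv) (le_normalizer (zpowers_le.2 hk hρ).2))
    (fun x hx => ?_) ?_ h.z2 h.z1 ik hu h.yT h.y2 h.y1 h.yz fun x hx e => ?_
  · by_cases e : x ∈ zpowers k
    · exact c1 x e
    · exact Commute.eq (by simpa using (c1 _ (mul_mem_of_idx ik hx h.yT e hy)).mul_right c2.inv_right)
  · rw [(show Commute (p * q) ρ from mul_inv_eq_iff_eq_mul.1 (cen ρ hρ)).mul_pow, h.u2 _ hv, one_mul, hρ2]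
  · by_cases e' : x ∈ zpowers k
    · exact hu _ (pow_mem e' 2) e
    · exact Or.inl (out x hx e')

theorem tri (hp : p ∈ U) (p1 : p ≠ 1) :
    Nat.card ↥(S ⊓ A ⊓ centralizer {p}) = 2 ∨ 8 ≤ Nat.card ↥(S ⊓ A ⊓ centralizer {p}) := by
  obtain ⟨n, hn⟩ := IsPGroup.iff_card.1 (h.sylT.isPGroup.to_inf_left (K := centralizer {p}))
  have h4 := h.not4 hp p1
  have h1 : Nat.card ↥(S ⊓ A ⊓ centralizer {p}) ≠ 1 := fun e => h.z1 (mem_bot.1 (card_eq_one.1 e ▸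
    (⟨h.zT, mem_centralizer_singleton_iff.2 (h.zc p (h.US hp)).symm⟩ : z ∈ S ⊓ A ⊓ centralizer {p})))
  rw [hn] at h4 h1 ⊢
  match n with
  | 0 => omega
  | 1 => omega
  | 2 => omega
  | n + 3 => right; rw [pow_add]; have := Nat.one_le_two_pow (n := n); omega

theorem main (hp : p ∈ U) (p1 : p ≠ 1) (hq : q ∈ U) (q1 : q ≠ 1) (pq : p * q ≠ 1) : False := by
  have hv := mul_mem hp hq
  have e1 : p * (p * q) ≠ 1 := by rwa [← mul_assoc, ← sq, h.u2 p hp, one_mul]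
  have e2 : q * (p * q) ≠ 1 := by rwa [(h.uc p hp q hq).eq, ← mul_assoc, ← sq, h.u2 q hq, one_mul]
  rcases h.tri hp p1 with a | a <;> rcases h.tri hq q1 with b | b <;> rcases h.tri hv pq with c | c
  exacts [h.pair2 hp p1 hq q1 pq a b, h.pair2 hp p1 hq q1 pq a b, h.pair2 hp p1 hv pq e1 a c,
    h.pair8 hq q1 hv pq e2 b c, h.pair2 hq q1 hv pq e2 b c, h.pair8 hp p1 hv pq e1 a c,
    h.pair8 hp p1 hq q1 pq a b, h.pair8 hp p1 hq q1 pq a b]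

end Four

theorem final15 (hA : Group.IsPerfect A) (hU : IsKleinFour U) (hUA : U ≤ 𝐍 A) (hΓA : Γ ≤ A) (hUΓ : U ≤ 𝐍 Γ)
    (hΓ : ∀ v ∈ U, v ≠ 1 → ∀ x ∈ A, v * x * v⁻¹ = x → x ∈ Γ) (h1 : PRankLE 2 1 Γ) (h0 : ¬ PRankLE 2 0 Γ) :
    PRankLE 2 1 A ∧ ¬ PRankLE 2 0 A := by
  obtain ⟨w, hw, w2, w1⟩ := exists_of_not_rank0 h0
  refine ⟨?_, not_rank0 (hΓA hw) w2 w1⟩
  have u2 : ∀ u ∈ U, u ^ 2 = 1 := fun u hu => by
    rw [sq]; exact congrArg Subtype.val (IsKleinFour.mul_self (⟨u, hu⟩ : U))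
  have uc : ∀ u ∈ U, ∀ v ∈ U, Commute u v := fun u hu v hv => by
    have := u2 _ (mul_mem hu hv)
    calc u * v = u * (u * v) ^ 2 * v := by rw [this, mul_one]
      _ = u ^ 2 * (v * u) * v ^ 2 := by simp only [sq]; group
      _ = v * u := by rw [u2 u hu, u2 v hv]; group
  obtain ⟨p, hp, p1, q, hq, q1, pq⟩ : ∃ p ∈ U, p ≠ 1 ∧ ∃ q ∈ U, q ≠ 1 ∧ p * q ≠ 1 := by
    by_contra hc
    push Not at hc
    have h4 := hU.card_four
    obtain ⟨⟨p, hp⟩, p1⟩ := ne_bot_iff_exists_ne_one.1 (fun e : U = ⊥ => by rw [e, card_bot] at h4; omega)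
    have p1' : p ≠ 1 := fun e => p1 (Subtype.ext e)
    have := card_le_two (H := U) (u2 p hp) fun v hv v1 => by
      rw [← inv_eq_of_mul_eq_one_right (hc p hp p1' v hv v1), inv_eq_iff_mul_eq_one, ← sq, u2 p hp]
    omega
  obtain ⟨S, hS, hUS⟩ := exists_syl_ge (isPGroup_iff_mem.2 fun u hu => ⟨1, u2 u hu⟩ : IsPGroup 2 U)
    (le_sup_right : U ≤ A ⊔ U)
  have hLA : A ⊔ U ≤ 𝐍 A := sup_le le_normalizer hUA
  have hT := hS.inf_normal le_sup_left hLA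
  by_cases hb : S ⊓ A = ⊥
  · exact rank_of_uniq hT (z := 1) (one_pow 2) fun v hv _ _ => mem_bot.1 (hb ▸ hv)
  obtain ⟨z, hz, z2, z1, zc⟩ := exists_central hS.isPGroup inf_le_left
    (le_normalizer_inf le_normalizer (hS.le.trans hLA)) hb
  refine rank_of_uniq hT z2 fun y hy y2 y1 => by_contra fun yz => ?_
  exact Four.main ⟨hA, hS, hUS, hUA, u2, uc, hUΓ, hΓ, fun a ha b hb => uniq_of_rank h1 ha hb, hz,
    hΓ p hp p1 z hz.2 (mul_inv_eq_iff_eq_mul.2 (zc p (hUS hp))), z2, z1, zc, hy, y2, y1, yz⟩ hp p1 hq q1 pq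


end Cfsg.Lib.Z4F
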